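import Cfsg.Agent.Lib.LargeExtra.MonsterSpread.Fixed

/-!
The centralizer of the element permutes the sets of fixed classes: by counting, it is the group
generated by the two elements, the element itself and the centre; hence its image in the simple
quotient is an extension of the cyclic group by the group of permutations induced.
-/

set_option autoImplicit false
set_option maxRecDepth 10000
set_option linter.unusedSectionVars false
set_option linter.style.haveILetI false

namespace Cfsg.Agent.LargeExtra.MonsterSpread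

open Cfsg Cfsg.Agent.Golay.Basic Cfsg.Agent.Leech.Basic Cfsg.Agent.Leech.Classes Cfsg.Agent.Leech.Mod2
  Cfsg.Agent.Leech.Index Cfsg.Agent.LeechAut.Gens Cfsg.Agent.LeechAut.Basic
  Cfsg.Agent.LeechAut.Cross Cfsg.Agent.LeechAut.Co1 Cfsg.Agent.LeechAut.Maximal
  Cfsg.Agent.LargeExtra.MonsterCent.Seven
open scoped Pointwise

theorem negOne_sq' : negOne * negOne = (1 : Cfsg.Co0) :=
  ext' fun v => by rw [mul_smul, negOne_smul, negOne_smul, neg_neg, one_smul]

/-- A union of orbits. -/
def orbMask8 (orb : GolayPt → Fin 8) (b : Fin 8 → Bool) : ℕ :=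
  Nat.ofBits fun i : Fin 24 => b (orb (pt i.1))

namespace Dat

variable {D : Dat}

/-- The centralizer in the automorphism group of the lattice. -/
abbrev C0 (D : Dat) : Subgroup Cfsg.Co0 := Subgroup.centralizer ({D.sig} : Set Cfsg.Co0)

/-- The centralizer in the simple quotient. -/
abbrev C1 (D : Dat) : Subgroup Cfsg.Spor.Co1 :=
  Subgroup.centralizer ({MonsterPair.toCo1 D.sig} : Set Cfsg.Spor.Co1)

variable (hD : D.OK)

include hD

theorem orderOf_sig : orderOf D.sig = D.p :=
  haveI : Fact D.p.Prime := ⟨hD.prime⟩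
  orderOf_eq_prime (sig_pow hD) (sig_ne_one hD)

theorem negOne_pow_ne : negOne ^ D.p ≠ (1 : Cfsg.Co0) := by
  obtain ⟨m, hm⟩ := hD.prime.odd_of_ne_two hD.odd
  rw [hm, pow_succ, pow_mul, pow_two, negOne_sq', one_pow, one_mul]
  exact negOne_ne_one

theorem negOne_ne_sig : negOne ≠ D.sig := fun e => negOne_pow_ne hD (by rw [e, sig_pow hD])

theorem orderOf_toCo1 : orderOf (MonsterPair.toCo1 D.sig) = D.p := by
  haveI : Fact D.p.Prime := ⟨hD.prime⟩
  refine orderOf_eq_prime (by rw [← map_pow, sig_pow hD, map_one]) fun e => ?_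
  rcases center_eq D.sig ((QuotientGroup.eq_one_iff _).1 e) with h | h
  · exact sig_ne_one hD h
  · exact negOne_ne_sig hD h.symm

theorem commute_of_commute {g : Cfsg.Co0}
    (h : MonsterPair.toCo1 g * MonsterPair.toCo1 D.sig = MonsterPair.toCo1 D.sig * MonsterPair.toCo1 g) :
    g * D.sig = D.sig * g := by
  rw [← map_mul, ← map_mul] at h
  have hm : (g * D.sig)⁻¹ * (D.sig * g) ∈ Subgroup.center Cfsg.Co0 := (QuotientGroup.eq).1 h
  rcases center_eq _ hm with e | e
  · exact inv_mul_eq_one.1 e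
  · exfalso
    have e2 : g⁻¹ * D.sig * g = D.sig * negOne := by
      rw [inv_mul_eq_iff_eq_mul] at e
      calc g⁻¹ * D.sig * g = g⁻¹ * (D.sig * g) := by group
        _ = g⁻¹ * (g * D.sig * negOne) := by rw [e]
        _ = D.sig * negOne := by group
    have e3 : (g⁻¹ * D.sig * g) ^ D.p = 1 := by
      rw [show g⁻¹ * D.sig * g = g⁻¹ * D.sig * g⁻¹⁻¹ by rw [inv_inv], conj_pow, sig_pow hD]
      group
    rw [e2, (show Commute D.sig negOne from negOne_comm D.sig).mul_pow, sig_pow hD, one_mul] at e3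
    exact negOne_pow_ne hD e3

/-! ### The action on the sets -/

/-- A set of classes. -/
def P (j : Fin D.N) : Set Cl := (fun i => phi hD (bit8 i)) '' {i | i ∈ D.sets j}

theorem P_injective : Function.Injective (P hD) := by
  intro j j' e
  by_contra hne
  obtain ⟨i, hi, h⟩ := hD.sets_ne j j' hne
  obtain ⟨i', hi', he⟩ : phi hD (bit8 i) ∈ P hD j' := e ▸ ⟨i, hi, rfl⟩
  exact h i' hi' (phi_injective hD he).symm

/-- The elements of the centralizer permuting the sets. -/
def permK : Subgroup (D.C0) where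
  carrier := {c | ∃ π : Equiv.Perm (Fin D.N), ∀ j, actC (c : Cfsg.Co0) '' P hD j = P hD (π j)}
  one_mem' := ⟨1, fun j => by
    rw [OneMemClass.coe_one, show (actC 1 : Cl → Cl) = id from funext actC_one, Set.image_id]; rfl⟩
  mul_mem' := by
    rintro a b ⟨π, hπ⟩ ⟨τ, hτ⟩
    refine ⟨π * τ, fun j => ?_⟩
    rw [Subgroup.coe_mul, show (actC ((a : Cfsg.Co0) * b) : Cl → Cl) = actC (a : Cfsg.Co0) ∘ actC (b : Cfsg.Co0)
      from funext (actC_mul _ _), Set.image_comp, hτ, hπ]
    rfl
  inv_mem' := by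
    rintro a ⟨π, hπ⟩
    refine ⟨π⁻¹, fun j => ?_⟩
    have := hπ (π⁻¹ j)
    rw [Equiv.Perm.inv_def, Equiv.apply_symm_apply] at this
    rw [← this, ← Set.image_comp, Equiv.Perm.inv_def]
    convert Set.image_id _ using 2
    exact funext fun c => actC_inv _ c

/-- The permutation induced. -/
noncomputable def permHomK : permK hD →* Equiv.Perm (Fin D.N) :=
  MonoidHom.mk' (fun c => c.2.choose) fun a b => Equiv.ext fun j => P_injective hD (by
    rw [← (a * b).2.choose_spec j]
    show actC (((a : D.C0) : Cfsg.Co0) * ((b : D.C0) : Cfsg.Co0)) '' _ = _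
    rw [show (actC (((a : D.C0) : Cfsg.Co0) * ((b : D.C0) : Cfsg.Co0)) : Cl → Cl) =
      actC ((a : D.C0) : Cfsg.Co0) ∘ actC ((b : D.C0) : Cfsg.Co0)
      from funext (actC_mul _ _), Set.image_comp, b.2.choose_spec, a.2.choose_spec]
    rfl)

theorem permHomK_spec (c : permK hD) (j : Fin D.N) :
    actC ((c : D.C0) : Cfsg.Co0) '' P hD j = P hD (permHomK hD c j) :=
  c.2.choose_spec j

theorem permHomK_eq (c : permK hD) {π : Equiv.Perm (Fin D.N)}
    (h : ∀ j, actC ((c : D.C0) : Cfsg.Co0) '' P hD j = P hD (π j)) : permHomK hD c = π :=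
  Equiv.ext fun j => P_injective hD ((permHomK_spec hD c j).symm.trans (h j))

theorem gen_mem_C0 (k : Fin 2) : D.gen k ∈ D.C0 :=
  Subgroup.mem_centralizer_singleton_iff.2 (hD.gen_comm k)

theorem gen_image (k : Fin 2) (j : Fin D.N) : actC (D.gen k) '' P hD j = P hD (D.perm k j) := by
  have key : ∀ i ∈ D.sets j, actC (D.gen k) (phi hD (bit8 i)) = phi hD (bit8 ((D.img k).getD i 0)) := by
    intro i hi
    rw [phi_eq hD, phi_eq hD, actC_cls]
    exact cls_of_half (by rw [hD.gen_smul]; exact (hD.gen_img k j i hi).1)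
  ext c
  constructor
  · rintro ⟨_, ⟨i, hi, rfl⟩, rfl⟩
    exact ⟨_, (hD.gen_img k j i hi).2, (key i hi).symm⟩
  · rintro ⟨i', hi', rfl⟩
    obtain ⟨i, hi, rfl⟩ := hD.gen_onto k j i' hi'
    exact ⟨_, ⟨i, hi, rfl⟩, key i hi⟩

theorem gen_mem_K (k : Fin 2) : (⟨D.gen k, gen_mem_C0 hD k⟩ : D.C0) ∈ permK hD :=
  ⟨D.perm k, gen_image hD k⟩

theorem range_ge : Subgroup.closure (Set.range D.perm) ≤ (permHomK hD).range := by
  rw [Subgroup.closure_le]
  rintro _ ⟨k, rfl⟩
  exact ⟨⟨_, gen_mem_K hD k⟩, permHomK_eq hD _ (gen_image hD k)⟩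

theorem eps_fix (x : Fin 8 → ZMod 2) : actC (negOne * D.sig) (phi hD x) = phi hD x := by
  rw [phi_eq hD, actC_cls, mul_smul, negOne_smul, cls_neg, phi_fixed hD x _ (phi_eq hD x).symm]

theorem fix_image {g : Cfsg.Co0} (h : ∀ x, actC g (phi hD x) = phi hD x) (j : Fin D.N) :
    actC g '' P hD j = P hD j := by
  ext c
  constructor
  · rintro ⟨_, ⟨i, hi, rfl⟩, rfl⟩
    exact ⟨i, hi, (h _).symm⟩
  · rintro ⟨i, hi, rfl⟩
    exact ⟨_, ⟨i, hi, rfl⟩, h _⟩

theorem eps_mem : negOne * D.sig ∈ D.C0 :=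
  Subgroup.mem_centralizer_singleton_iff.2
    ((show Commute D.sig negOne from negOne_comm D.sig).symm.mul_left (Commute.refl D.sig)).eq

theorem orderOf_eps : orderOf (negOne * D.sig) = 2 * D.p := by
  have h1 : orderOf (negOne : Cfsg.Co0) = 2 :=
    haveI : Fact (Nat.Prime 2) := ⟨Nat.prime_two⟩
    orderOf_eq_prime (by rw [pow_two, negOne_sq']) negOne_ne_one
  rw [Commute.orderOf_mul_eq_mul_orderOf_of_coprime
    (show Commute D.sig negOne from negOne_comm D.sig).symm, h1, orderOf_sig hD]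
  rw [h1, orderOf_sig hD]
  exact (Nat.prime_two.coprime_iff_not_dvd).2 fun h => hD.odd
    ((Nat.prime_dvd_prime_iff_eq Nat.prime_two hD.prime).1 h).symm

theorem ker_ge : Subgroup.zpowers (⟨negOne * D.sig, eps_mem hD⟩ : D.C0) ≤
    (permHomK hD).ker.map (permK hD).subtype := by
  rw [Subgroup.zpowers_le]
  refine ⟨⟨⟨negOne * D.sig, eps_mem hD⟩, 1, fix_image hD (eps_fix hD)⟩, ?_, rfl⟩
  exact permHomK_eq hD _ (fix_image hD (eps_fix hD))

/-! ### Counting -/

theorem stab_le : Nat.card (crossStab.subgroupOf D.C0) ≤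
    Nat.card {τ : Cfsg.M24 // τ * D.sigma = D.sigma * τ} *
      Nat.card {c : codeSets // (D.sigma : Equiv.Perm GolayPt) • c.1 = c.1} := by
  have hmap : ∀ u : crossStab.subgroupOf D.C0, ∃ (τ : {τ : Cfsg.M24 // τ * D.sigma = D.sigma * τ})
      (c : {c : codeSets // (D.sigma : Equiv.Perm GolayPt) • c.1 = c.1}),
      mono (τ.1, c.1) = ((u : D.C0) : Cfsg.Co0) := by
    rintro ⟨⟨g, hg⟩, hgs⟩
    obtain ⟨⟨τ, c⟩, rfl⟩ := exists_mono g hgs
    have h : mono (τ, c) * D.sig = D.sig * mono (τ, c) := Subgroup.mem_centralizer_singleton_iff.1 hg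
    have hs : D.sig = mono (D.sigma, ⟨∅, empty_mem⟩) := by rw [sig, MonsterPair.permHom_eq_mono]
    obtain ⟨h1, e1⟩ := MonsterCent.Seven.mono_mul τ D.sigma c ⟨∅, empty_mem⟩
    obtain ⟨h2, e2⟩ := MonsterCent.Seven.mono_mul D.sigma τ ⟨∅, empty_mem⟩ c
    rw [hs, e1, e2] at h
    have := mono_injective h
    simp only [Prod.mk.injEq, Subtype.mk.injEq] at this
    refine ⟨⟨τ, this.1⟩, ⟨c, ?_⟩, rfl⟩
    have hd : ∀ t : Finset GolayPt, symmDiff t ∅ = t ∧ symmDiff ∅ t = t := fun t =>
      ⟨by ext; simp [Finset.mem_symmDiff], by ext; simp [Finset.mem_symmDiff]⟩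
    simpa [Finset.smul_finset_empty, hd] using this.2.symm
  choose τ c hτc using hmap
  haveI := finite_Co0
  rw [← Nat.card_prod]
  refine Nat.card_le_card_of_injective (fun u => (τ u, c u)) fun u v e => ?_
  simp only [Prod.mk.injEq] at e
  exact Subtype.ext (Subtype.ext (by rw [← hτc u, ← hτc v, e.1, e.2]))

omit hD in
theorem card_fixed_code {orb : GolayPt → Fin 8} {r : Fin 8 → GolayPt}
    (h : ∀ q : GolayPt, ∃ e ∈ List.range D.p, ((D.sigma : Equiv.Perm GolayPt) ^ e) (r (orb q)) = q) :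
    Nat.card {c : codeSets // (D.sigma : Equiv.Perm GolayPt) • c.1 = c.1} ≤
      (Finset.univ.filter fun b : Fin 8 → Bool => isCode (orbMask8 orb b) = true).card := by
  classical
  rw [← Fintype.card_subtype, ← Nat.card_eq_fintype_card]
  have hmask : ∀ c : {c : codeSets // (D.sigma : Equiv.Perm GolayPt) • c.1 = c.1},
      orbMask8 orb (fun q => decide (r q ∈ c.1.1)) = mask c.1.1 := by
    intro c
    rw [orbMask8, mask]
    congr 1
    funext i
    obtain ⟨e, -, he⟩ := h (pt i.1)
    refine decide_eq_decide.2 ?_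
    have hp : ∀ n : ℕ, ((D.sigma : Equiv.Perm GolayPt) ^ n) • c.1.1 = c.1.1 := by
      intro n
      induction n with
      | zero => rw [pow_zero, one_smul]
      | succ n ih => rw [pow_succ, mul_smul, c.2, ih]
    conv_rhs => rw [← he, ← hp e]
    exact (Finset.smul_mem_smul_finset_iff _).symm
  refine Nat.card_le_card_of_injective
    (fun c => ⟨fun q => decide (r q ∈ c.1.1), by rw [hmask]; exact mem_supports_iff.1 c.1.2⟩) fun c c' e => ?_
  refine Subtype.ext (Subtype.ext (mask_injective ?_))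
  rw [← hmask c, ← hmask c']
  exact congrArg _ (congrArg Subtype.val e)

/-- The order of the centralizer is bounded by the candidates for the classes of the frame times the
stabiliser. -/
theorem card_C0_le {t s : ℕ}
    (ht : (Finset.univ.filter fun x : Fin 8 → ZMod 2 => sqNorm (D.repFun x) = 64).card ≤ t)
    (hs : Nat.card (crossStab.subgroupOf D.C0) ≤ s) : Nat.card D.C0 ≤ t * s := by
  classical
  haveI := finite_Co0
  set S := crossStab.subgroupOf D.C0
  have himg : ∀ g : D.C0, ∃ x, sqNorm (D.repFun x) = 64 ∧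
      phi hD x = actC (g : Cfsg.Co0) (cls (frame none)) := by
    intro g
    have hfix : cls (D.sig • ((g : Cfsg.Co0) • frame none)) = cls ((g : Cfsg.Co0) • frame none) := by
      rw [← mul_smul, ← Subgroup.mem_centralizer_singleton_iff.1 g.2, mul_smul]
      exact MonsterPair.cls_smul _ (phi_fixed hD _ _ (frame_class hD))
    obtain ⟨x, hx⟩ := exists_phi hD hfix
    exact ⟨x, norm_of_type hD (by rw [sqNorm_smul, sqNorm_frame]) hx, hx.symm⟩
  choose x hx64 hx using himg
  let f : D.C0 ⧸ S → {x : Fin 8 → ZMod 2 // sqNorm (D.repFun x) = 64} :=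
    Quotient.lift (fun g => ⟨x g, hx64 g⟩) fun a b hab => by
      refine Subtype.ext (phi_injective hD ?_)
      show phi hD (x a) = phi hD (x b)
      rw [hx, hx]
      have hm : ((a⁻¹ * b : D.C0) : Cfsg.Co0) ∈ MonsterPair.clsStab (frame none) := by
        rw [MonsterPair.clsStab_frame]; exact (QuotientGroup.leftRel_apply (s := S)).1 hab
      have hm' : cls (((a⁻¹ * b : D.C0) : Cfsg.Co0) • frame none) = cls (frame none) := hm
      conv_lhs => rw [← hm', ← actC_cls, ← actC_mul]
      congr 1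
      simp
  have hf : Function.Injective f := by
    intro u v
    induction u using Quotient.inductionOn with | h a => ?_
    induction v using Quotient.inductionOn with | h b => ?_
    intro e
    have e' : x a = x b := congrArg Subtype.val e
    refine Quotient.sound (QuotientGroup.leftRel_apply.2 ?_)
    show ((a⁻¹ * b : D.C0) : Cfsg.Co0) ∈ crossStab
    rw [← MonsterPair.clsStab_frame]
    show cls (((a⁻¹ * b : D.C0) : Cfsg.Co0) • frame none) = cls (frame none)
    rw [Subgroup.coe_mul, Subgroup.coe_inv, ← actC_cls, actC_mul, ← hx b, ← e', hx a, actC_inv]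
  calc Nat.card D.C0 = Nat.card (D.C0 ⧸ S) * Nat.card S := Subgroup.card_eq_card_quotient_mul_card_subgroup S
    _ ≤ t * s := by
      refine Nat.mul_le_mul ?_ hs
      refine (Nat.card_le_card_of_injective f hf).trans ?_
      rw [Nat.card_eq_fintype_card, Fintype.card_subtype]
      exact ht

variable {H : Subgroup (Equiv.Perm (Fin D.N))} (hH : H ≤ Subgroup.closure (Set.range D.perm))
  (hcard : Nat.card D.C0 ≤ 2 * D.p * Nat.card H)

include hH hcard

theorem counted : permK hD = ⊤ ∧ (permHomK hD).range = H ∧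
    (permHomK hD).ker.map (permK hD).subtype = Subgroup.zpowers (⟨negOne * D.sig, eps_mem hD⟩ : D.C0) := by
  haveI := finite_Co0
  have hr : Nat.card H ≤ Nat.card (permHomK hD).range :=
    Subgroup.card_le_of_le (hH.trans (range_ge hD))
  have hk : 2 * D.p ≤ Nat.card ((permHomK hD).ker.map (permK hD).subtype) := by
    refine le_trans (le_of_eq ?_) (Subgroup.card_le_of_le (ker_ge hD))
    rw [Nat.card_zpowers, ← Subgroup.orderOf_coe, orderOf_eps hD]
  have hkm : Nat.card ((permHomK hD).ker.map (permK hD).subtype) = Nat.card (permHomK hD).ker :=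
    Subgroup.card_map_of_injective (Subgroup.subtype_injective _)
  have hprod : Nat.card (permK hD) = Nat.card (permHomK hD).ker * Nat.card (permHomK hD).range := by
    rw [← Subgroup.index_ker, Subgroup.card_mul_index]
  have hle := Subgroup.card_le_of_le (le_top : permK hD ≤ ⊤)
  rw [Subgroup.card_top] at hle
  have hHpos : 0 < Nat.card H := Nat.card_pos
  have h2 : 2 * D.p * Nat.card H ≤ Nat.card (permHomK hD).ker * Nat.card (permHomK hD).range :=
    Nat.mul_le_mul (hkm ▸ hk) hr
  have heq : Nat.card (permHomK hD).ker * Nat.card (permHomK hD).range = 2 * D.p * Nat.card H := by omega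
  have hker : Nat.card (permHomK hD).ker = 2 * D.p := by
    by_contra hne
    have : 2 * D.p + 1 ≤ Nat.card (permHomK hD).ker := by
      have := hkm ▸ hk
      omega
    have h3 := Nat.mul_le_mul this hr
    rw [heq, add_mul, one_mul] at h3
    omega
  refine ⟨Subgroup.eq_top_of_card_eq _ (by omega), ?_, ?_⟩
  · refine (Subgroup.eq_of_le_of_card_ge (hH.trans (range_ge hD)) ?_).symm
    rw [hker] at heq
    exact le_of_eq (Nat.eq_of_mul_eq_mul_left (by have := hD.prime.pos; omega) heq)
  · refine (Subgroup.eq_of_le_of_card_ge (ker_ge hD) ?_).symm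
    rw [hkm, hker, Nat.card_zpowers, ← Subgroup.orderOf_coe, orderOf_eps hD]

/-- The induced permutation of an element of the centralizer. -/
noncomputable def rho : D.C0 →* H :=
  ((permHomK hD).comp (MonoidHom.codRestrict (MonoidHom.id D.C0) (permK hD)
    fun c => by rw [(counted hD hH hcard).1]; exact Subgroup.mem_top c)).codRestrict H
    fun c => (counted hD hH hcard).2.1.le ⟨_, rfl⟩

theorem rho_surjective : Function.Surjective (rho hD hH hcard) := by
  rintro ⟨π, hπ⟩
  rw [← (counted hD hH hcard).2.1] at hπ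
  obtain ⟨c, hc⟩ := hπ
  exact ⟨(c : D.C0), Subtype.ext hc⟩

theorem rho_eq_one_iff (c : D.C0) :
    rho hD hH hcard c = 1 ↔ c ∈ Subgroup.zpowers (⟨negOne * D.sig, eps_mem hD⟩ : D.C0) := by
  rw [← (counted hD hH hcard).2.2]
  constructor
  · intro h
    exact ⟨⟨c, by rw [(counted hD hH hcard).1]; exact Subgroup.mem_top c⟩, congrArg Subtype.val h, rfl⟩
  · rintro ⟨c', hc', rfl⟩
    exact Subtype.ext hc'

theorem rho_of_fix {c : D.C0} (h : ∀ x, actC (c : Cfsg.Co0) (phi hD x) = phi hD x) :
    rho hD hH hcard c = 1 :=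
  Subtype.ext (permHomK_eq hD _ (fix_image hD h))

omit hH hcard in
/-- The map onto the centralizer of the image. -/
def toC1 : D.C0 →* D.C1 :=
  (MonsterPair.toCo1.comp D.C0.subtype).codRestrict D.C1 fun g => by
    rw [Subgroup.mem_centralizer_singleton_iff]
    show MonsterPair.toCo1 (g : Cfsg.Co0) * MonsterPair.toCo1 D.sig =
      MonsterPair.toCo1 D.sig * MonsterPair.toCo1 g
    rw [← map_mul, ← map_mul, Subgroup.mem_centralizer_singleton_iff.1 g.2]

omit hH hcard in
theorem toC1_surjective : Function.Surjective (toC1 (D := D)) := by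
  rintro ⟨c, hc⟩
  obtain ⟨g, rfl⟩ := QuotientGroup.mk_surjective c
  exact ⟨⟨g, Subgroup.mem_centralizer_singleton_iff.2
    (commute_of_commute hD (Subgroup.mem_centralizer_singleton_iff.1 hc))⟩, rfl⟩

theorem toC1_ker : (toC1 (D := D)).ker ≤ (rho hD hH hcard).ker := by
  intro g hg
  refine rho_of_fix hD hH hcard fun x => ?_
  have : MonsterPair.toCo1 (g : Cfsg.Co0) = 1 := congrArg Subtype.val hg
  rcases center_eq _ ((QuotientGroup.eq_one_iff _).1 this) with e | e <;> rw [e]
  · exact actC_one _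
  · rw [phi_eq hD, actC_cls, negOne_smul, cls_neg]

/-- The action of the centralizer of the image. -/
noncomputable def rho1 : D.C1 →* H :=
  (toC1 (D := D)).liftOfSurjective (toC1_surjective hD) ⟨rho hD hH hcard, toC1_ker hD hH hcard⟩

theorem rho1_toC1 (g : D.C0) : rho1 hD hH hcard (toC1 g) = rho hD hH hcard g :=
  MonoidHom.liftOfRightInverse_comp_apply (toC1 (D := D)) _
    (Function.rightInverse_surjInv (toC1_surjective hD)) ⟨rho hD hH hcard, toC1_ker hD hH hcard⟩ g

theorem rho1_surjective : Function.Surjective (rho1 hD hH hcard) := by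
  intro A
  obtain ⟨g, rfl⟩ := rho_surjective hD hH hcard A
  exact ⟨toC1 g, rho1_toC1 hD hH hcard g⟩

theorem rho1_ker (c : D.C1) :
    rho1 hD hH hcard c = 1 ↔ (c : Cfsg.Spor.Co1) ∈ Subgroup.zpowers (MonsterPair.toCo1 D.sig) := by
  obtain ⟨g, rfl⟩ := toC1_surjective hD c
  rw [rho1_toC1]
  have hn : MonsterPair.toCo1 negOne = 1 := (QuotientGroup.eq_one_iff _).2 negOne_central
  have he : MonsterPair.toCo1 (negOne * D.sig) = MonsterPair.toCo1 D.sig := by rw [map_mul, hn, one_mul]
  constructor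
  · intro h
    obtain ⟨i, hi⟩ := (rho_eq_one_iff hD hH hcard g).1 h
    refine ⟨i, ?_⟩
    show MonsterPair.toCo1 D.sig ^ i = MonsterPair.toCo1 (g : Cfsg.Co0)
    have hi' : ((negOne * D.sig : Cfsg.Co0)) ^ i = (g : Cfsg.Co0) := by
      have h2 : (⟨negOne * D.sig, eps_mem hD⟩ : D.C0) ^ i = g := hi
      rw [← h2, Subgroup.coe_zpow]
    rw [← hi', map_zpow, he]
  · intro h
    obtain ⟨k, hk⟩ := h
    have e : toC1 g = toC1 ((⟨negOne * D.sig, eps_mem hD⟩ : D.C0) ^ k) := by
      refine Subtype.ext ?_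
      show MonsterPair.toCo1 (g : Cfsg.Co0) =
        MonsterPair.toCo1 (((⟨negOne * D.sig, eps_mem hD⟩ : D.C0) ^ k : D.C0) : Cfsg.Co0)
      rw [Subgroup.coe_zpow, map_zpow, he]
      exact hk.symm
    rw [← rho1_toC1, e, rho1_toC1, map_zpow,
      rho_of_fix hD hH hcard (c := ⟨negOne * D.sig, eps_mem hD⟩) (eps_fix hD), one_zpow]

/-- An element fixing all the fixed classes acts trivially. -/
theorem rho1_of_fix (c : D.C1) (g : Cfsg.Co0) (hg : MonsterPair.toCo1 g = (c : Cfsg.Spor.Co1))
    (h : ∀ v : leechLattice, cls (D.sig • v) = cls v → cls (g • v) = cls v) :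
    rho1 hD hH hcard c = 1 := by
  have hgC : g ∈ D.C0 := Subgroup.mem_centralizer_singleton_iff.2 (commute_of_commute hD (by
    rw [hg]; exact Subgroup.mem_centralizer_singleton_iff.1 c.2))
  rw [show c = toC1 ⟨g, hgC⟩ from Subtype.ext hg.symm, rho1_toC1]
  refine rho_of_fix hD hH hcard fun x => ?_
  show actC g (phi hD x) = phi hD x
  rw [phi_eq hD, actC_cls]
  exact h _ (phi_fixed hD x _ (phi_eq hD x).symm)

end Dat

end Cfsg.Agent.LargeExtra.MonsterSpread
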