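import Cfsg.Agent.Lib.LargeExtra.MonsterSpread.Fuse
import Cfsg.Agent.Lib.M24Module.Classes

/-!
Reading tables; counting the permutations of the code commuting with a given one; generation of
permutation groups from words; automorphisms of the cyclic group induced by conjugation.
-/

set_option autoImplicit false
set_option maxRecDepth 10000
set_option linter.unusedSectionVars false
set_option linter.style.haveILetI false

namespace Cfsg.Agent.LargeExtra.MonsterSpread

open Cfsg Cfsg.Agent.Golay.Basic Cfsg.Agent.Golay.Perm Cfsg.Agent.Golay.M24 Cfsg.Agent.Golay.M24Data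
  Cfsg.Agent.Golay.Cert Cfsg.Agent.M24Module.Classes Cfsg.Agent.Leech.Classes Cfsg.Agent.LeechAut.Basic
  Cfsg.Agent.LeechAut.Cross Cfsg.Agent.LeechAut.Co1 Cfsg.Agent.LargeExtra.MonsterCent.Seven

/-- Unpacking of a vector. -/
def unpack (n : ℕ) : List ℤ :=
  (List.range 24).map fun i => (((n >>> (5 * i)) % 32 : ℕ) : ℤ) - 16

/-! ### Commuting permutations of the code -/

/-- The candidates above a table on the last two levels. -/
def candList : List (List ℕ × List ℕ) := trans5 ×ˢ trans6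

/-- The table of a candidate. -/
def candTab (s : ℕ) (w : List ℕ × List ℕ) : ℕ := compTab (compTab s (wordTab w.1)) (wordTab w.2)

/-- The candidates above a table commuting with a permutation given by a table. -/
def commWords (s : ℕ) (σtab : List ℕ) : List (List ℕ × List ℕ) :=
  candList.filter fun w => (List.range 24).all fun i =>
    tabAt (candTab s w) (σtab.getD i 0) == σtab.getD (tabAt (candTab s w) i) 0

theorem exists_comm_word {σ : Cfsg.M24} {σtab : List ℕ}
    (hσ : ∀ q, ix ((σ : Equiv.Perm GolayPt) q) = σtab.getD (ix q) 0) {s : ℕ} (hs : tabOK s = true)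
    {τ : Equiv.Perm GolayPt} (hτ : τ ∈ Cfsg.M24) (hc : τ * σ = σ * τ)
    (h : ∀ j < 5, τ (base j) = tabPerm s (base j)) :
    ∃ w ∈ commWords s σtab, τ = tabPerm s * evalWord w.1 * evalWord w.2 := by
  have h5 : (tabPerm s)⁻¹ * τ ∈ fixers M24 (basePre 5) := by
    refine ⟨M24.mul_mem (M24.inv_mem (tabPerm_mem hs)) hτ, fun x hx => ?_⟩
    obtain ⟨j, hj, rfl⟩ := mem_basePre hx
    rw [Equiv.Perm.mul_apply, Equiv.Perm.inv_eq_iff_eq, h j hj]
  obtain ⟨w5, hw5, h6⟩ := exists_word_step (by norm_num) h5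
  obtain ⟨w6, hw6, h7⟩ := exists_word_step (by norm_num) h6
  rw [show (6 : ℕ) + 1 = 7 from rfl, fixers_seven, Subgroup.mem_bot] at h7
  have hgeq : τ = tabPerm s * evalWord w5 * evalWord w6 := by
    rw [← one_mul τ, show (1 : Equiv.Perm GolayPt) = tabPerm s * evalWord w5 * evalWord w6 *
      ((evalWord w6)⁻¹ * ((evalWord w5)⁻¹ * (tabPerm s)⁻¹)) by group]
    simp only [mul_assoc] at h7 ⊢
    rw [h7, mul_one]
  have htab : IsTab (candTab s (w5, w6)) τ := by
    rw [hgeq]
    exact isTab_comp (isTab_comp (isTab_tabPerm hs) (isTab_word w5)) (isTab_word w6)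
  refine ⟨(w5, w6), ?_, hgeq⟩
  simp only [commWords, candList, List.mem_filter, List.mem_product, List.all_eq_true, List.mem_range,
    beq_iff_eq]
  refine ⟨⟨hw5, hw6⟩, fun i hi => ?_⟩
  have h1 := congrArg (fun u : Equiv.Perm GolayPt => ix (u (pt i))) hc
  simp only [Equiv.Perm.mul_apply] at h1
  rw [htab, hσ, hσ, ix_pt hi, htab, ix_pt hi] at h1
  exact h1

theorem no_comm {σ : Cfsg.M24} {σtab : List ℕ}
    (hσ : ∀ q, ix ((σ : Equiv.Perm GolayPt) q) = σtab.getD (ix q) 0) {s : ℕ} (hs : tabOK s = true)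
    (hnil : (commWords s σtab).length = 0) {τ : Equiv.Perm GolayPt} (hτ : τ ∈ Cfsg.M24)
    (hc : τ * σ = σ * τ) : ¬ ∀ j < 5, τ (base j) = tabPerm s (base j) := fun h => by
  obtain ⟨w, hw, -⟩ := exists_comm_word hσ hs hτ hc h
  rw [List.length_eq_zero_iff] at hnil
  rw [hnil] at hw
  exact List.not_mem_nil hw

/-- The identity table. -/
def idT : ℕ := packTab (fun i => i) 24

theorem idT_ok : tabOK idT = true := by decide +kernel

theorem tabPerm_idT : tabPerm idT = 1 :=
  (isTab_tabPerm idT_ok).unique fun q => by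
    rw [Equiv.Perm.one_apply, idT, tabAt_packTab 24 _ (fun i hi => by omega) _ (ix_lt q)]

/-- The centralizer is bounded by a set separating cosets of the fixers of five points. -/
theorem card_comm_le {σ : Cfsg.M24} {σtab : List ℕ}
    (hσ : ∀ q, ix ((σ : Equiv.Perm GolayPt) q) = σtab.getD (ix q) 0) {X : Type} [Finite X]
    (f : {τ : Cfsg.M24 // τ * σ = σ * τ} → X)
    (hf : ∀ a b, f a = f b → ∀ j < 5,
      ((a.1 : Cfsg.M24) : Equiv.Perm GolayPt) (base j) = ((b.1 : Cfsg.M24) : Equiv.Perm GolayPt) (base j)) :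
    Nat.card {τ : Cfsg.M24 // τ * σ = σ * τ} ≤ Nat.card X * (commWords idT σtab).length := by
  classical
  haveI : Nonempty {τ : Cfsg.M24 // τ * σ = σ * τ} := ⟨⟨1, by rw [one_mul, mul_one]⟩⟩
  let rep : {τ : Cfsg.M24 // τ * σ = σ * τ} → {τ : Cfsg.M24 // τ * σ = σ * τ} :=
    fun a => Function.invFun f (f a)
  have hrep : ∀ a, f (rep a) = f a := fun a => Function.invFun_eq ⟨a, rfl⟩
  have hrr : ∀ a b, f a = f b → rep a = rep b := fun a b e => by
    show Function.invFun f (f a) = Function.invFun f (f b)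
    rw [e]
  have hw : ∀ a, ∃ w ∈ commWords idT σtab,
      ((((rep a).1)⁻¹ * a.1 : Cfsg.M24) : Equiv.Perm GolayPt) = evalWord w.1 * evalWord w.2 := by
    intro a
    have hc : (((rep a).1)⁻¹ * a.1) * σ = σ * (((rep a).1)⁻¹ * a.1) :=
      ((show Commute (rep a).1 σ from (rep a).2).inv_left.mul_left (show Commute a.1 σ from a.2)).eq
    obtain ⟨w, hwm, hwe⟩ := exists_comm_word hσ idT_ok (((rep a).1)⁻¹ * a.1).2
      (congrArg (fun u : Cfsg.M24 => (u : Equiv.Perm GolayPt)) hc) (fun j hj => by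
        rw [tabPerm_idT, Equiv.Perm.one_apply, Subgroup.coe_mul, Subgroup.coe_inv, Equiv.Perm.mul_apply,
          Equiv.Perm.inv_eq_iff_eq]
        exact (hf _ _ (hrep a) j hj).symm)
    exact ⟨w, hwm, by rw [hwe, tabPerm_idT, one_mul]⟩
  choose w hwm hwe using hw
  have hlen : ((commWords idT σtab).toFinset).card ≤ (commWords idT σtab).length :=
    List.toFinset_card_le _
  refine le_trans ?_ (Nat.mul_le_mul_left _ hlen)
  rw [← Nat.card_eq_finsetCard, ← Nat.card_prod]
  refine Nat.card_le_card_of_injective (fun a => (f a, ⟨w a, List.mem_toFinset.2 (hwm a)⟩)) fun a b e => ?_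
  simp only [Prod.mk.injEq, Subtype.mk.injEq] at e
  have h1 : ((((rep a).1)⁻¹ * a.1 : Cfsg.M24) : Equiv.Perm GolayPt) = (((rep b).1)⁻¹ * b.1 : Cfsg.M24) := by
    rw [hwe, hwe, e.2]
  have h2 := Subtype.ext h1
  rw [hrr a b e.1, mul_left_cancel_iff] at h2
  exact Subtype.ext h2

/-! ### Powers -/

theorem sigma_orderOf {D : Dat} (hD : D.OK) : orderOf D.sigma = D.p :=
  haveI : Fact D.p.Prime := ⟨hD.prime⟩
  orderOf_eq_prime hD.sigma_pow hD.sigma_ne

theorem conj_pow_exists {D : Dat} (hD : D.OK) {n : Cfsg.M24} {g : ℕ}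
    (hn : n * D.sigma * n⁻¹ = D.sigma ^ g)
    (hg : ∀ r : ℕ, r < D.p → r ≠ 0 → ∃ a : Fin D.p, g ^ (a : ℕ) % D.p = r) (k : ℕ) (hk : ¬ D.p ∣ k) :
    ∃ m : Cfsg.Spor.Co1, m * MonsterPair.toCo1 D.sig * m⁻¹ = MonsterPair.toCo1 D.sig ^ k := by
  obtain ⟨a, ha⟩ := hg (k % D.p) (Nat.mod_lt _ hD.prime.pos) (fun e => hk (Nat.dvd_of_mod_eq_zero e))
  have hn' : ∀ a : ℕ, n ^ a * D.sigma * (n ^ a)⁻¹ = D.sigma ^ (g ^ a) := by
    intro a
    induction a with
    | zero => simp
    | succ a ih =>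
      calc n ^ (a + 1) * D.sigma * (n ^ (a + 1))⁻¹ = n * (n ^ a * D.sigma * (n ^ a)⁻¹) * n⁻¹ := by
            rw [pow_succ']; group
        _ = (n * D.sigma * n⁻¹) ^ (g ^ a) := by rw [ih, conj_pow]
        _ = D.sigma ^ (g ^ (a + 1)) := by rw [hn, ← pow_mul, pow_succ']
  refine ⟨MonsterPair.toCo1 (permHom (n ^ (a : ℕ))), ?_⟩
  have h1 : D.sigma ^ (g ^ (a : ℕ)) = D.sigma ^ k := by
    rw [← pow_mod_orderOf, sigma_orderOf hD, ha, ← sigma_orderOf hD, pow_mod_orderOf]
  rw [Dat.sig, ← map_inv, ← map_inv, ← map_mul, ← map_mul, ← map_mul, ← map_mul, ← map_pow, ← map_pow,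
    hn', h1]

/-! ### Words -/

/-- The product coded by a number: its binary digits below the leading one, lowest first. -/
def wordVal {A : Type*} [Monoid A] (P : Fin 2 → A) (c : ℕ) : A :=
  (((List.range 40).filter fun i => 2 ^ (i + 1) ≤ c).map fun i => P (if c.testBit i then 1 else 0)).prod

theorem wordVal_mem {A : Type*} [Group A] (P : Fin 2 → A) (c : ℕ) :
    wordVal P c ∈ Subgroup.closure (Set.range P) :=
  Subgroup.list_prod_mem _ fun x hx => by
    obtain ⟨i, -, rfl⟩ := List.mem_map.1 hx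
    exact Subgroup.subset_closure ⟨_, rfl⟩

/-- The key of a three-cycle. -/
def cycKey (a b c : ℕ) : ℕ :=
  if a < b ∧ a < c then a * 100 + b * 10 + c
  else if b < c then b * 100 + c * 10 + a else c * 100 + a * 10 + b

/-- The word of a three-cycle. -/
def cycLookup (L : List (ℕ × ℕ)) (a b c : ℕ) : ℕ :=
  ((L.find? fun e => e.1 == cycKey a b c).map Prod.snd).getD 1

theorem alternating_le {α : Type*} [Fintype α] [DecidableEq α] {K : Subgroup (Equiv.Perm α)}
    (h : ∀ a b c : α, a ≠ b → b ≠ c → a ≠ c → Equiv.swap a b * Equiv.swap b c ∈ K) :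
    alternatingGroup α ≤ K := by
  rw [← Equiv.Perm.closure_three_cycles_eq_alternating, Subgroup.closure_le]
  intro f hf
  obtain ⟨a, ha⟩ : f.support.Nonempty := by
    rw [Finset.nonempty_iff_ne_empty]
    intro e
    have := Equiv.Perm.IsThreeCycle.card_support hf
    rw [e] at this
    simp at this
  have hnd := (Equiv.Perm.IsThreeCycle.nodup_iff_mem_support hf).2 ha
  simp only [List.nodup_cons, List.mem_cons, List.not_mem_nil, or_false, not_or] at hnd
  rw [(Equiv.Perm.IsThreeCycle.eq_swap_mul_swap_iff_mem_support hf).2 ha]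
  exact h _ _ _ hnd.1.1 hnd.2.1 hnd.1.2

end Cfsg.Agent.LargeExtra.MonsterSpread
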