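import Cfsg.Agent.Lib.LargeExtra.MonsterSpread.Common
import Cfsg.Agent.Lib.LargeExtra.MonsterSpread.FiveData

/-!
The element of order five with four fixed points: its centralizer in the automorphism group of the
lattice acts on ten sets of fixed classes as the wreath product of the alternating group of degree five
by a group of order two.
-/

set_option autoImplicit false
set_option maxRecDepth 100000
set_option maxHeartbeats 4000000
set_option linter.unusedSectionVars false
set_option linter.style.haveILetI false

namespace Cfsg.Agent.LargeExtra.MonsterSpread.Five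

open Cfsg Cfsg.Agent.Golay.Basic Cfsg.Agent.Golay.Perm Cfsg.Agent.Golay.M24 Cfsg.Agent.Golay.M24Data
  Cfsg.Agent.Golay.Cert Cfsg.Agent.Leech.Basic Cfsg.Agent.Leech.Classes Cfsg.Agent.Leech.Mod2
  Cfsg.Agent.Leech.Index Cfsg.Agent.LeechAut.Gens Cfsg.Agent.LeechAut.Basic
  Cfsg.Agent.LeechAut.Cross Cfsg.Agent.LeechAut.Xi Cfsg.Agent.LeechAut.Co1
  Cfsg.Agent.LargeExtra.MonsterCent.Seven
open scoped Pointwise

def sigmaP : Equiv.Perm GolayPt := tp sigmaTab sigmaInv (by decide +kernel) (by decide +kernel)
def normP : Equiv.Perm GolayPt := tp normTab normInv (by decide +kernel) (by decide +kernel)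
def p0 : Equiv.Perm GolayPt := tp step0Tab step0Inv (by decide +kernel) (by decide +kernel)
def p1 : Equiv.Perm GolayPt := tp step1Tab step1Inv (by decide +kernel) (by decide +kernel)
def p2 : Equiv.Perm GolayPt := tp step2Tab step2Inv (by decide +kernel) (by decide +kernel)
def p3 : Equiv.Perm GolayPt := tp step3Tab step3Inv (by decide +kernel) (by decide +kernel)
def p4 : Equiv.Perm GolayPt := tp step4Tab step4Inv (by decide +kernel) (by decide +kernel)
def p5 : Equiv.Perm GolayPt := tp step5Tab step5Inv (by decide +kernel) (by decide +kernel)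

theorem sigma_mem : sigmaP ∈ Cfsg.M24 := mem_M24_of_masks _ (by decide +kernel)
theorem norm_mem : normP ∈ Cfsg.M24 := mem_M24_of_masks _ (by decide +kernel)

def e0 : Cfsg.Co0 := mEl ⟨p0, mem_M24_of_masks _ (by decide +kernel)⟩ step0Mask (by decide +kernel)
def e1 : Cfsg.Co0 := mEl ⟨p1, mem_M24_of_masks _ (by decide +kernel)⟩ step1Mask (by decide +kernel)
def e2 : Cfsg.Co0 := mEl ⟨p2, mem_M24_of_masks _ (by decide +kernel)⟩ step2Mask (by decide +kernel)
def e3 : Cfsg.Co0 := mEl ⟨p3, mem_M24_of_masks _ (by decide +kernel)⟩ step3Mask (by decide +kernel)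
def e4 : Cfsg.Co0 := mEl ⟨p4, mem_M24_of_masks _ (by decide +kernel)⟩ step4Mask (by decide +kernel)
def e5 : Cfsg.Co0 := mEl ⟨p5, mem_M24_of_masks _ (by decide +kernel)⟩ step5Mask (by decide +kernel)

def genA : Cfsg.Co0 := e0 * (xi * (e1 * (xi * e2)))
def genB : Cfsg.Co0 := e3 * (xi * (e4 * (xi * e5)))

def funA (x : Vec) : Vec :=
  mFun p0 step0Mask (xiFun (mFun p1 step1Mask (xiFun (mFun p2 step2Mask x))))
def funB (x : Vec) : Vec :=
  mFun p3 step3Mask (xiFun (mFun p4 step4Mask (xiFun (mFun p5 step5Mask x))))

theorem genA_smul (v : leechLattice) : ((genA • v : leechLattice) : Vec) = funA (v : Vec) := by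
  rw [genA, mul_smul, mul_smul, mul_smul, mul_smul, e0, mEl_smul, xi_smul, e1, mEl_smul, xi_smul, e2, mEl_smul]
  rfl
theorem genB_smul (v : leechLattice) : ((genB • v : leechLattice) : Vec) = funB (v : Vec) := by
  rw [genB, mul_smul, mul_smul, mul_smul, mul_smul, e3, mEl_smul, xi_smul, e4, mEl_smul, xi_smul, e5, mEl_smul]
  rfl

/-- The map of a table. -/
def setMap (t : List (List ℕ)) (k : Fin 2) (j : Fin 10) : Fin 10 :=
  ⟨(t.getD k []).getD j 0 % 10, Nat.mod_lt _ (by norm_num)⟩

/-- The permutations of the sets. -/
def setPerm (k : Fin 2) : Equiv.Perm (Fin 10) where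
  toFun := setMap permTab k
  invFun := setMap permInv k
  left_inv := by revert k; decide +kernel
  right_inv := by revert k; decide +kernel

/-- The data. -/
def D : Dat where
  p := 5
  N := 10
  sigma := ⟨sigmaP, sigma_mem⟩
  gen := ![genA, genB]
  genFun := ![funA, funB]
  repTab := repPack.map unpack
  oddCert := oddCert
  pairCertP := pairCertP
  pairCertN := pairCertN
  codeCert := codeCert
  frameIdx := frameIdx
  sets j := setTab.getD j []
  img k := imgTab.getD k []
  perm := setPerm

theorem genA_comm_test : ∀ i : GolayPt,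
    funA (mFun sigmaP 0 (Pi.single i 8)) = mFun sigmaP 0 (funA (Pi.single i 8)) := by decide +kernel
theorem genB_comm_test : ∀ i : GolayPt,
    funB (mFun sigmaP 0 (Pi.single i 8)) = mFun sigmaP 0 (funB (Pi.single i 8)) := by decide +kernel

theorem sig_smul' (v : leechLattice) : ((D.sig • v : leechLattice) : Vec) = mFun sigmaP 0 (v : Vec) := by
  rw [Dat.sig, MonsterPair.permHom_eq_mono, mono_smul]
  funext i
  simp [D, mFun, signedPerm]

theorem ok : D.OK where
  prime := by show Nat.Prime 5; norm_num
  odd := by show (5 : ℕ) ≠ 2; norm_num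
  sigma_pow := Subtype.ext (Equiv.ext fun q => by revert q; decide +kernel)
  sigma_ne := fun e => by
    have h : sigmaP (pt 0) = pt 0 := by
      have := congrArg (fun u : Cfsg.M24 => (u : Equiv.Perm GolayPt) (pt 0)) e
      exact this
    revert h
    decide +kernel
  gen_smul := fun j => by
    fin_cases j
    exacts [genA_smul, genB_smul]
  gen_comm := fun j => by
    refine eq_of_frames fun i => ?_
    fin_cases j
    · show ((genA * D.sig) • frame i : leechLattice).1 = ((D.sig * genA) • frame i : leechLattice).1
      rw [mul_smul, mul_smul, genA_smul, sig_smul', sig_smul', genA_smul, frame_coe]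
      exact genA_comm_test i
    · show ((genB * D.sig) • frame i : leechLattice).1 = ((D.sig * genB) • frame i : leechLattice).1
      rw [mul_smul, mul_smul, genB_smul, sig_smul', sig_smul', genB_smul, frame_coe]
      exact genB_comm_test i
  rep_mem := by decide +kernel
  rep_fixed := by decide +kernel
  rep_norm := by decide +kernel
  rep_comb := by decide +kernel
  odd_trace := by decide +kernel
  pair_trace := by decide +kernel
  code_trace := by decide +kernel
  frame_rep := by decide +kernel
  sets_ne := by decide +kernel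
  gen_img := by decide +kernel
  gen_onto := by decide +kernel

end Cfsg.Agent.LargeExtra.MonsterSpread.Five
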