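import Cfsg.Agent.Lib.LargeExtra.MonsterSpread.Five

/-!
The centralizer of the element of order five: its order, the group it induces on the ten sets, and
the conjugacy of the elements of order five in the stabiliser of the cross.
-/

set_option autoImplicit false
set_option maxRecDepth 100000
set_option maxHeartbeats 4000000
set_option linter.unusedSectionVars false
set_option linter.style.haveILetI false

namespace Cfsg.Agent.LargeExtra.MonsterSpread.Five

open Cfsg Cfsg.Agent.Golay.Basic Cfsg.Agent.Golay.Perm Cfsg.Agent.Golay.M24 Cfsg.Agent.Golay.Cert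
  Cfsg.Agent.M24Module.Classes
  Cfsg.Agent.Leech.Classes Cfsg.Agent.Leech.Index Cfsg.Agent.LeechAut.Basic Cfsg.Agent.LeechAut.Cross
  Cfsg.Agent.LeechAut.Co1 Cfsg.Agent.LargeExtra.MonsterCent.Seven
open scoped Pointwise

theorem sigma_ix : ∀ q, ix ((D.sigma : Equiv.Perm GolayPt) q) = sigmaTab.getD (ix q) 0 := by
  decide +kernel

theorem sigma_base : ∀ j : Fin 4, sigmaP (base j) = base (j + 1) := by decide +kernel

theorem base_moved : sigmaP (base 0) ≠ base 0 := by decide +kernel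

theorem card_moved : Nat.card {t : GolayPt // sigmaP t ≠ t} = 20 := by
  rw [Nat.card_eq_fintype_card]
  decide +kernel

theorem comm_words : (commWords idT sigmaTab).length = 3 := by decide +kernel

theorem card_comm : Nat.card {τ : Cfsg.M24 // τ * D.sigma = D.sigma * τ} ≤ 60 := by
  have hcm : ∀ (a : {τ : Cfsg.M24 // τ * D.sigma = D.sigma * τ}) (q : GolayPt),
      ((a.1 : Cfsg.M24) : Equiv.Perm GolayPt) (sigmaP q) = sigmaP (((a.1 : Cfsg.M24) : Equiv.Perm GolayPt) q) :=
    fun a q => congrArg (fun u : Cfsg.M24 => (u : Equiv.Perm GolayPt) q) a.2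
  let f : {τ : Cfsg.M24 // τ * D.sigma = D.sigma * τ} → {t : GolayPt // sigmaP t ≠ t} := fun a =>
    ⟨((a.1 : Cfsg.M24) : Equiv.Perm GolayPt) (base 0), fun e => base_moved (by
      rw [← hcm] at e
      exact ((a.1 : Cfsg.M24) : Equiv.Perm GolayPt).injective e)⟩
  refine le_trans (card_comm_le (σ := D.sigma) sigma_ix f fun a b e => ?_) (by rw [card_moved, comm_words])
  intro j
  induction j with
  | zero => intro _; exact congrArg Subtype.val e
  | succ j ih =>
    intro hj
    rw [← sigma_base ⟨j, by omega⟩, hcm, hcm, ih (by omega)]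

/-- The orbit of a point. -/
def orb (q : GolayPt) : Fin 8 := ⟨orbTab.getD (ix q) 0 % 8, Nat.mod_lt _ (by norm_num)⟩

/-- A point of an orbit. -/
def orbPt (k : Fin 8) : GolayPt := pt (orbRep.getD k 0)

theorem orb_spec : ∀ q : GolayPt, ∃ e ∈ List.range D.p,
    ((D.sigma : Equiv.Perm GolayPt) ^ e) (orbPt (orb q)) = q := by decide +kernel

theorem code_count :
    (Finset.univ.filter fun b : Fin 8 → Bool => isCode (orbMask8 orb b) = true).card ≤ 16 := by
  decide +kernel

theorem frame_count :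
    (Finset.univ.filter fun x : Fin 8 → ZMod 2 => sqNorm (D.repFun x) = 64).card ≤ 75 := by
  decide +kernel

theorem card_C0 : Nat.card D.C0 ≤ 72000 := by
  refine le_trans (Dat.card_C0_le ok (s := 960) frame_count ((Dat.stab_le ok).trans ?_)) (by norm_num)
  calc _ ≤ 60 * 16 := Nat.mul_le_mul card_comm ((Dat.card_fixed_code orb_spec).trans code_count)
    _ = 960 := by norm_num

/-! ### The group on the sets -/

/-- The relabelling. -/
def relabel : Equiv.Perm (Fin 5 ⊕ Fin 5) ≃* Equiv.Perm (Fin 10) :=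
  Equiv.permCongrHom finSumFinEquiv

/-- The wreath product, on ten points. -/
def H : Subgroup (Equiv.Perm (Fin 10)) := Cfsg.alternatingFiveWreathTwo.map relabel.toMonoidHom

theorem left_words : ∀ a b c : Fin 5, a ≠ b → b ≠ c → a ≠ c →
    wordVal setPerm (cycLookup cycLeft a b c) =
      relabel (Equiv.Perm.sumCongr (Equiv.swap a b * Equiv.swap b c) 1) := by
  decide +kernel

theorem right_words : ∀ a b c : Fin 5, a ≠ b → b ≠ c → a ≠ c →
    wordVal setPerm (cycLookup cycRight a b c) =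
      relabel (Equiv.Perm.sumCongr 1 (Equiv.swap a b * Equiv.swap b c)) := by
  decide +kernel

theorem swap_word : wordVal setPerm swapWord = relabel (Equiv.sumComm (Fin 5) (Fin 5)) := by
  decide +kernel

theorem H_le : H ≤ Subgroup.closure (Set.range setPerm) := by
  rw [H, Subgroup.map_le_iff_le_comap, Cfsg.alternatingFiveWreathTwo, Subgroup.closure_le]
  have hl : alternatingGroup (Fin 5) ≤ (Subgroup.closure (Set.range setPerm)).comap
      ((relabel.toMonoidHom.comp (Equiv.Perm.sumCongrHom (Fin 5) (Fin 5))).comp (MonoidHom.inl _ _)) :=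
    alternating_le fun a b c hab hbc hac => by
      show relabel (Equiv.Perm.sumCongr (Equiv.swap a b * Equiv.swap b c) 1) ∈
        Subgroup.closure (Set.range setPerm)
      rw [← left_words a b c hab hbc hac]
      exact wordVal_mem _ _
  have hr : alternatingGroup (Fin 5) ≤ (Subgroup.closure (Set.range setPerm)).comap
      ((relabel.toMonoidHom.comp (Equiv.Perm.sumCongrHom (Fin 5) (Fin 5))).comp (MonoidHom.inr _ _)) :=
    alternating_le fun a b c hab hbc hac => by
      show relabel (Equiv.Perm.sumCongr 1 (Equiv.swap a b * Equiv.swap b c)) ∈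
        Subgroup.closure (Set.range setPerm)
      rw [← right_words a b c hab hbc hac]
      exact wordVal_mem _ _
  rintro g (⟨σ, τ, rfl⟩ | rfl)
  · rw [show Equiv.Perm.sumCongr (σ : Equiv.Perm (Fin 5)) (τ : Equiv.Perm (Fin 5)) =
      Equiv.Perm.sumCongr (σ : Equiv.Perm (Fin 5)) 1 * Equiv.Perm.sumCongr 1 (τ : Equiv.Perm (Fin 5)) by
        rw [Equiv.Perm.sumCongr_mul, mul_one, one_mul]]
    exact mul_mem (hl σ.2) (hr τ.2)
  · show relabel (Equiv.sumComm (Fin 5) (Fin 5)) ∈ Subgroup.closure (Set.range setPerm)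
    rw [← swap_word]
    exact wordVal_mem _ _

theorem card_alt : Nat.card (alternatingGroup (Fin 5)) = 60 := by
  rw [Nat.card_eq_fintype_card]
  decide +kernel

/-- The base of the wreath product. -/
def baseHom : alternatingGroup (Fin 5) × alternatingGroup (Fin 5) →* Cfsg.alternatingFiveWreathTwo :=
  ((Equiv.Perm.sumCongrHom (Fin 5) (Fin 5)).comp
    ((alternatingGroup (Fin 5)).subtype.prodMap (alternatingGroup (Fin 5)).subtype)).codRestrict _
    fun x => Subgroup.subset_closure (Or.inl ⟨x.1, x.2, rfl⟩)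

theorem baseHom_injective : Function.Injective baseHom := by
  intro x y e
  have h := congrArg (fun u : Cfsg.alternatingFiveWreathTwo => (u : Equiv.Perm (Fin 5 ⊕ Fin 5))) e
  have h2 := Equiv.Perm.sumCongrHom_injective (α := Fin 5) (β := Fin 5) h
  exact Prod.ext (Subtype.ext (congrArg Prod.fst h2)) (Subtype.ext (congrArg Prod.snd h2))

/-- The exchange. -/
def swapW : Cfsg.alternatingFiveWreathTwo :=
  ⟨Equiv.sumComm (Fin 5) (Fin 5), Subgroup.subset_closure (Or.inr rfl)⟩

theorem card_H : 7200 ≤ Nat.card H := by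
  rw [H, Subgroup.card_map_of_injective relabel.injective]
  let j : (alternatingGroup (Fin 5) × alternatingGroup (Fin 5)) × Fin 2 → Cfsg.alternatingFiveWreathTwo :=
    fun x => if x.2 = 0 then baseHom x.1 else baseHom x.1 * swapW
  have hside : ∀ (x : alternatingGroup (Fin 5) × alternatingGroup (Fin 5)),
      ((baseHom x : Equiv.Perm (Fin 5 ⊕ Fin 5)) (Sum.inl 0)).isLeft = true ∧
      (((baseHom x * swapW : Cfsg.alternatingFiveWreathTwo) : Equiv.Perm (Fin 5 ⊕ Fin 5)) (Sum.inl 0)).isLeft = false :=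
    fun x => ⟨rfl, rfl⟩
  have hj : Function.Injective j := by
    rintro ⟨x, a⟩ ⟨y, b⟩ e
    have h2 := congrArg (fun u : Cfsg.alternatingFiveWreathTwo =>
      ((u : Equiv.Perm (Fin 5 ⊕ Fin 5)) (Sum.inl 0)).isLeft) e
    have e' : j (x, a) = j (y, b) := e
    fin_cases a <;> fin_cases b
    · exact Prod.ext (baseHom_injective e') rfl
    · exfalso
      change ((baseHom x : Equiv.Perm (Fin 5 ⊕ Fin 5)) (Sum.inl 0)).isLeft =
        (((baseHom y * swapW : Cfsg.alternatingFiveWreathTwo) : Equiv.Perm (Fin 5 ⊕ Fin 5)) (Sum.inl 0)).isLeft at h2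
      rw [(hside x).1, (hside y).2] at h2
      exact Bool.noConfusion h2
    · exfalso
      change (((baseHom x * swapW : Cfsg.alternatingFiveWreathTwo) : Equiv.Perm (Fin 5 ⊕ Fin 5)) (Sum.inl 0)).isLeft =
        ((baseHom y : Equiv.Perm (Fin 5 ⊕ Fin 5)) (Sum.inl 0)).isLeft at h2
      rw [(hside x).2, (hside y).1] at h2
      exact Bool.noConfusion h2
    · exact Prod.ext (baseHom_injective (mul_right_cancel (b := swapW) e')) rfl
  have := Nat.card_le_card_of_injective j hj
  rw [Nat.card_prod, Nat.card_prod, card_alt, Nat.card_fin] at this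
  linarith

theorem two_group_alt {N : Subgroup (alternatingGroup (Fin 5))} (hN : N.Normal) (h2 : IsPGroup 2 N) :
    N = ⊥ := by
  haveI : IsSimpleGroup (alternatingGroup (Fin 5)) := alternatingGroup.isSimpleGroup (by simp)
  refine (IsSimpleGroup.eq_bot_or_eq_top_of_normal N hN).resolve_right fun h => ?_
  haveI : Fact (Nat.Prime 2) := ⟨Nat.prime_two⟩
  obtain ⟨n, hn⟩ := IsPGroup.iff_card.1 h2
  rw [h, Subgroup.card_top, card_alt] at hn
  have := (Nat.prime_dvd_prime_iff_eq (by norm_num : Nat.Prime 3) Nat.prime_two).1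
    ((by norm_num : Nat.Prime 3).dvd_of_dvd_pow (show 3 ∣ 2 ^ n by rw [← hn]; norm_num))
  norm_num at this

theorem base_normal : (baseHom.range).Normal := by
  refine ⟨?_⟩
  rintro _ ⟨x, rfl⟩ ⟨g, hg⟩
  suffices h : ∀ g ∈ Cfsg.alternatingFiveWreathTwo, ∀ x : alternatingGroup (Fin 5) × alternatingGroup (Fin 5),
      ∃ y, (baseHom y : Equiv.Perm (Fin 5 ⊕ Fin 5)) = g * (baseHom x : Equiv.Perm (Fin 5 ⊕ Fin 5)) * g⁻¹ by
    obtain ⟨y, hy⟩ := h g hg x
    exact ⟨y, Subtype.ext hy⟩
  intro g hg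
  rw [Cfsg.alternatingFiveWreathTwo] at hg
  induction hg using Subgroup.closure_induction'' with
  | mem g hg =>
    rintro x
    rcases hg with ⟨σ, τ, rfl⟩ | rfl
    · refine ⟨(σ, τ) * x * (σ, τ)⁻¹, ?_⟩
      rw [map_mul, map_mul, map_inv]
      rfl
    · refine ⟨(x.2, x.1), Equiv.ext fun u => ?_⟩
      rcases u with u | u <;> rfl
  | inv_mem g hg =>
    rintro x
    rcases hg with ⟨σ, τ, rfl⟩ | rfl
    · refine ⟨(σ, τ)⁻¹ * x * ((σ, τ)⁻¹)⁻¹, ?_⟩
      rw [map_mul, map_mul, map_inv, map_inv]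
      rfl
    · refine ⟨(x.2, x.1), Equiv.ext fun u => ?_⟩
      rcases u with u | u <;> rfl
  | one => exact fun x => ⟨x, by simp⟩
  | mul a b _ _ ha hb =>
    intro x
    obtain ⟨y, hy⟩ := hb x
    obtain ⟨w, hw⟩ := ha y
    exact ⟨w, by rw [hw, hy]; group⟩

/-- Three-cycles on either side. -/
def sideTests : List (Equiv.Perm (Fin 5 ⊕ Fin 5)) :=
  [Equiv.Perm.sumCongr (Equiv.swap 0 1 * Equiv.swap 1 2) 1,
   Equiv.Perm.sumCongr (Equiv.swap 2 3 * Equiv.swap 3 4) 1,
   Equiv.Perm.sumCongr (Equiv.swap 0 1 * Equiv.swap 1 3) 1,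
   Equiv.Perm.sumCongr (Equiv.swap 1 2 * Equiv.swap 2 4) 1,
   Equiv.Perm.sumCongr 1 (Equiv.swap 0 1 * Equiv.swap 1 2),
   Equiv.Perm.sumCongr 1 (Equiv.swap 2 3 * Equiv.swap 3 4),
   Equiv.Perm.sumCongr 1 (Equiv.swap 0 1 * Equiv.swap 1 3),
   Equiv.Perm.sumCongr 1 (Equiv.swap 1 2 * Equiv.swap 2 4)]

theorem side_check : ∀ i y : Fin 5 ⊕ Fin 5,
    (sideTests.all fun t => decide (t i = i) == decide (t y = y)) = true → y = i := by
  decide +kernel

theorem side_sep (i y : Fin 5 ⊕ Fin 5) (h : ∀ t ∈ sideTests, (t i = i ↔ t y = y)) : y = i :=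
  side_check i y (by simpa [List.all_eq_true] using h)

theorem side_mem : ∀ t ∈ sideTests, ∃ x, (baseHom x : Equiv.Perm (Fin 5 ⊕ Fin 5)) = t := by
  intro t ht
  have h1 : ∀ a b c : Fin 5, a ≠ b → b ≠ c →
      Equiv.swap a b * Equiv.swap b c ∈ alternatingGroup (Fin 5) := fun a b c hab hbc => by
    rw [Equiv.Perm.mem_alternatingGroup, map_mul, Equiv.Perm.sign_swap hab, Equiv.Perm.sign_swap hbc]
    rfl
  simp only [sideTests, List.mem_cons, List.not_mem_nil, or_false] at ht
  rcases ht with rfl | rfl | rfl | rfl | rfl | rfl | rfl | rfl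
  · exact ⟨(⟨_, h1 0 1 2 (by decide) (by decide)⟩, 1), rfl⟩
  · exact ⟨(⟨_, h1 2 3 4 (by decide) (by decide)⟩, 1), rfl⟩
  · exact ⟨(⟨_, h1 0 1 3 (by decide) (by decide)⟩, 1), rfl⟩
  · exact ⟨(⟨_, h1 1 2 4 (by decide) (by decide)⟩, 1), rfl⟩
  · exact ⟨(1, ⟨_, h1 0 1 2 (by decide) (by decide)⟩), rfl⟩
  · exact ⟨(1, ⟨_, h1 2 3 4 (by decide) (by decide)⟩), rfl⟩
  · exact ⟨(1, ⟨_, h1 0 1 3 (by decide) (by decide)⟩), rfl⟩
  · exact ⟨(1, ⟨_, h1 1 2 4 (by decide) (by decide)⟩), rfl⟩

theorem core_wreath {N : Subgroup Cfsg.alternatingFiveWreathTwo} (hN : N.Normal) (h2 : IsPGroup 2 N) :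
    N = ⊥ := by
  have hb : N.comap baseHom = ⊥ := by
    have hn : (N.comap baseHom).Normal := hN.comap _
    have hp : IsPGroup 2 (N.comap baseHom) := h2.comap_of_injective baseHom baseHom_injective
    have h1 := two_group_alt (Subgroup.Normal.map hn (MonoidHom.fst _ _) (fun a => ⟨(a, 1), rfl⟩)) (hp.map _)
    have h3 := two_group_alt (Subgroup.Normal.map hn (MonoidHom.snd _ _) (fun a => ⟨(1, a), rfl⟩)) (hp.map _)
    refine (Subgroup.eq_bot_iff_forall _).2 fun x hx => Prod.ext ?_ ?_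
    · exact (Subgroup.mem_bot).1 (h1 ▸ Subgroup.mem_map_of_mem (MonoidHom.fst _ _) hx)
    · exact (Subgroup.mem_bot).1 (h3 ▸ Subgroup.mem_map_of_mem (MonoidHom.snd _ _) hx)
  refine (Subgroup.eq_bot_iff_forall _).2 fun n hn => Subtype.ext (Equiv.ext fun i => side_sep i _ fun t ht => ?_)
  obtain ⟨x, hx⟩ := side_mem t ht
  have hc : n * baseHom x * n⁻¹ * (baseHom x)⁻¹ = 1 := by
    obtain ⟨y, hy⟩ := (base_normal.conj_mem _ ⟨x, rfl⟩ n)
    have hyx : baseHom (y * x⁻¹) = n * baseHom x * n⁻¹ * (baseHom x)⁻¹ := by rw [map_mul, map_inv, hy]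
    have hm : n * baseHom x * n⁻¹ * (baseHom x)⁻¹ ∈ N := by
      rw [show n * baseHom x * n⁻¹ * (baseHom x)⁻¹ = n * (baseHom x * n⁻¹ * (baseHom x)⁻¹) by group]
      exact mul_mem hn (hN.conj_mem _ (inv_mem hn) _)
    have : y * x⁻¹ ∈ N.comap baseHom := by
      show baseHom (y * x⁻¹) ∈ N
      rw [hyx]; exact hm
    rw [hb, Subgroup.mem_bot] at this
    rw [← hyx, this, map_one]
  rw [mul_inv_eq_one, mul_inv_eq_iff_eq_mul] at hc
  have he := congrArg (fun u : Cfsg.alternatingFiveWreathTwo => (u : Equiv.Perm (Fin 5 ⊕ Fin 5)) i) hc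
  simp only [Subgroup.coe_mul, Equiv.Perm.mul_apply, hx] at he
  constructor
  · intro h
    rw [h] at he
    exact he.symm
  · intro h
    rw [h] at he
    exact (n : Equiv.Perm (Fin 5 ⊕ Fin 5)).injective he

/-- The relabelled group. -/
noncomputable def isoH : Cfsg.alternatingFiveWreathTwo ≃* H :=
  Subgroup.equivMapOfInjective _ relabel.toMonoidHom relabel.injective

theorem iso_wreath {A : Type*} [Mul A] (h : Nonempty (A ≃* H)) :
    Nonempty (A ≃* Cfsg.alternatingFiveWreathTwo) :=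
  h.map fun e => e.trans isoH.symm

theorem core_H : Cfsg.pCore 2 H = ⊥ := by
  have hn : (Cfsg.pCore 2 H).Normal := Cfsg.Agent.Cores.pCore_normal (G := H) 2
  have h2 : IsPGroup 2 (Cfsg.pCore 2 H) := Cfsg.Agent.Cores.pCore_isPGroup (G := H) 2
  have := core_wreath (hn.comap isoH.toMonoidHom) (h2.comap_of_injective _ isoH.injective)
  refine (Subgroup.eq_bot_iff_forall _).2 fun x hx => ?_
  have hm : isoH.symm x ∈ (Cfsg.pCore 2 H).comap isoH.toMonoidHom := by
    show isoH (isoH.symm x) ∈ Cfsg.pCore 2 H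
    rwa [MulEquiv.apply_symm_apply]
  rw [this, Subgroup.mem_bot] at hm
  simpa using congrArg isoH hm

/-! ### The stabiliser of the cross -/

theorem five_crossOne : (Nat.card crossOne).factorization 5 = 1 := by
  have h : Nat.card crossOne = 2048 * 244823040 := by have := card_crossOne; omega
  rw [h]
  have hn : (2048 * 244823040 : ℕ) ≠ 0 := by norm_num
  have h1 := (Nat.Prime.pow_dvd_iff_le_factorization (p := 5) (k := 1) (by norm_num) hn).1 (by norm_num)
  have h2 : ¬ 2 ≤ (2048 * 244823040 : ℕ).factorization 5 := fun h2 => by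
    have := (Nat.Prime.pow_dvd_iff_le_factorization (p := 5) (k := 2) (by norm_num) hn).2 h2
    norm_num at this
  omega

theorem hits (c : crossOne) (hc : orderOf c = 5) : D.Hits c := by
  haveI : Fact (Nat.Prime 5) := ⟨by norm_num⟩
  haveI := finite_Co0
  haveI : Finite crossOne := inferInstance
  let s : crossOne := ⟨MonsterPair.toCo1 D.sig, Subgroup.mem_map_of_mem _ (permHom_mem _)⟩
  have hso : orderOf s = 5 := (Subgroup.orderOf_coe s).symm.trans (Dat.orderOf_toCo1 ok)
  have hsyl : ∀ u : crossOne, orderOf u = 5 →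
      ∃ P : Sylow 5 crossOne, (P : Subgroup crossOne) = Subgroup.zpowers u := by
    intro u hu
    refine ⟨Sylow.ofCard (Subgroup.zpowers u) ?_, rfl⟩
    rw [Nat.card_zpowers, hu, five_crossOne, pow_one]
  obtain ⟨P, hP⟩ := hsyl s hso
  obtain ⟨P', hP'⟩ := hsyl c hc
  obtain ⟨k, hkP⟩ := MulAction.exists_smul_eq crossOne P' P
  have h1 : s ∈ (P : Subgroup crossOne) := by rw [hP]; exact Subgroup.mem_zpowers s
  rw [← hkP, Sylow.coe_subgroup_smul, hP', Subgroup.mem_pointwise_smul_iff_inv_smul_mem, ← map_inv,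
    MulAut.smul_def, MulAut.conj_apply] at h1
  obtain ⟨i, hi⟩ := h1
  refine ⟨k, i, congrArg Subtype.val (show (k * c * k⁻¹) ^ i = s from ?_)⟩
  rw [conj_zpow]
  change c ^ i = _ at hi
  rw [hi]; group

theorem norm_conj : (⟨normP, norm_mem⟩ : Cfsg.M24) * D.sigma * (⟨normP, norm_mem⟩ : Cfsg.M24)⁻¹ = D.sigma ^ 2 := by
  rw [mul_inv_eq_iff_eq_mul]
  refine Subtype.ext (Equiv.ext fun q => ?_)
  revert q
  decide +kernel

theorem pow_induced (k : ℕ) (hk : ¬ D.p ∣ k) :
    ∃ m : Cfsg.Spor.Co1, m * MonsterPair.toCo1 D.sig * m⁻¹ = MonsterPair.toCo1 D.sig ^ k :=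
  conj_pow_exists ok norm_conj (show ∀ r : ℕ, r < 5 → r ≠ 0 → ∃ a : Fin 5, 2 ^ (a : ℕ) % 5 = r by decide) k hk

theorem card_bound : Nat.card D.C0 ≤ 2 * D.p * Nat.card H :=
  card_C0.trans (le_trans (by norm_num [D]) (Nat.mul_le_mul_left _ card_H))

end Cfsg.Agent.LargeExtra.MonsterSpread.Five
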