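import Cfsg.Agent.Lib.LargeExtra.MonsterCent.SevenQuot

/-!
An element of odd prime order of the permutation group of the 24-point code acting on the classes
modulo two of the lattice: a table of representatives of the fixed classes, two elements centralising
it, and a family of sets of fixed classes which they permute.
-/

set_option autoImplicit false
set_option maxRecDepth 10000
set_option linter.unusedSectionVars false

namespace Cfsg.Agent.LargeExtra.MonsterSpread

open Cfsg Cfsg.Agent.Golay.Basic Cfsg.Agent.Leech.Basic Cfsg.Agent.Leech.Classes Cfsg.Agent.Leech.Mod2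
  Cfsg.Agent.Leech.Index Cfsg.Agent.Leech.Gen Cfsg.Agent.LeechAut.Gens Cfsg.Agent.LeechAut.Basic
  Cfsg.Agent.LeechAut.Cross Cfsg.Agent.LeechAut.Co1 Cfsg.Agent.LeechAut.Maximal
  Cfsg.Agent.LargeExtra.MonsterCent.Seven
open scoped Pointwise

/-- The coordinates of an index. -/
def bit8 (m : ℕ) : Fin 8 → ZMod 2 := fun k => if m.testBit k then 1 else 0

/-- The unit vectors. -/
def unit8 (k : Fin 8) : Fin 8 → ZMod 2 := fun j => if j = k then 1 else 0

/-- The data. -/
structure Dat where
  /-- The order. -/
  p : ℕ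
  /-- The number of sets. -/
  N : ℕ
  /-- The permutation. -/
  sigma : Cfsg.M24
  /-- Two elements centralising it. -/
  gen : Fin 2 → Cfsg.Co0
  /-- Their action on vectors. -/
  genFun : Fin 2 → Vec → Vec
  /-- Representatives of the fixed classes. -/
  repTab : List (List ℤ)
  /-- The class of the trace of the odd generator. -/
  oddCert : ℕ
  /-- The classes of the traces of the pair generators with positive sign. -/
  pairCertP : List ℕ
  /-- The classes of the traces of the pair generators with negative sign. -/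
  pairCertN : List ℕ
  /-- The classes of the traces of the basis code words. -/
  codeCert : List ℕ
  /-- The class of the frame. -/
  frameIdx : ℕ
  /-- The sets of classes. -/
  sets : Fin N → List ℕ
  /-- The images of the classes under the two elements. -/
  img : Fin 2 → List ℕ
  /-- The permutations of the sets induced. -/
  perm : Fin 2 → Equiv.Perm (Fin N)

namespace Dat

variable (D : Dat)

/-- The element of the automorphism group. -/
def sig : Cfsg.Co0 := permHom D.sigma

/-- Its action on vectors. -/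
def sigFun (x : Vec) : Vec := mFun (D.sigma : Equiv.Perm GolayPt) 0 x

/-- The representative of a coordinate vector. -/
def repFun (x : Fin 8 → ZMod 2) : Vec := vec (D.repTab.getD (idx x) [])

/-- The combination of the basic representatives. -/
def combFun (x : Fin 8 → ZMod 2) : Vec := fun p => ∑ k : Fin 8, ((x k).val : ℤ) * D.repFun (unit8 k) p

/-- The trace on vectors. -/
def trFun (x : Vec) : Vec := fun q => ∑ k ∈ Finset.range D.p, (D.sigFun^[k] x) q

/-- The facts checked on the data. -/
structure OK : Prop where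
  prime : D.p.Prime
  odd : D.p ≠ 2
  sigma_pow : D.sigma ^ D.p = 1
  sigma_ne : D.sigma ≠ 1
  gen_smul : ∀ j (v : leechLattice), ((D.gen j • v : leechLattice) : Vec) = D.genFun j (v : Vec)
  gen_comm : ∀ j, D.gen j * D.sig = D.sig * D.gen j
  rep_mem : ∀ x, inLat (D.repFun x) = true
  rep_fixed : ∀ x, half (D.sigFun (D.repFun x)) (D.repFun x) = true
  rep_norm : ∀ x, x ≠ 0 → sqNorm (D.repFun x) ≤ 64 ∧ sqNorm (D.repFun x) ≠ 0
  rep_comb : ∀ x, half (D.repFun x) (D.combFun x) = true
  odd_trace : half (D.trFun oddVec) (D.repFun (bit8 D.oddCert)) = true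
  pair_trace : ∀ i : GolayPt, i ≠ none →
    half (D.trFun (pairVec i 1)) (D.repFun (bit8 (D.pairCertP.getD (ix i) 0))) = true ∧
    half (D.trFun (pairVec i (-1))) (D.repFun (bit8 (D.pairCertN.getD (ix i) 0))) = true
  code_trace : ∀ k : Fin 12,
    half (D.trFun (twoInd (maskSet (basisMasks.getD k 0)))) (D.repFun (bit8 (D.codeCert.getD k 0))) = true
  frame_rep : half (Pi.single none 8) (D.repFun (bit8 D.frameIdx)) = true
  sets_ne : ∀ j j', j ≠ j' → ∃ i ∈ D.sets j, ∀ i' ∈ D.sets j', bit8 i ≠ bit8 i'
  gen_img : ∀ k j, ∀ i ∈ D.sets j,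
    half (D.genFun k (D.repFun (bit8 i))) (D.repFun (bit8 ((D.img k).getD i 0))) = true ∧
      (D.img k).getD i 0 ∈ D.sets (D.perm k j)
  gen_onto : ∀ k j, ∀ i' ∈ D.sets (D.perm k j), ∃ i ∈ D.sets j, (D.img k).getD i 0 = i'

variable {D} (hD : D.OK)

include hD

theorem sig_smul (v : leechLattice) : ((D.sig • v : leechLattice) : Vec) = D.sigFun (v : Vec) := by
  rw [sig, MonsterPair.permHom_eq_mono, mono_smul]
  funext i
  simp [sigFun, mFun, signedPerm]

theorem sig_pow : D.sig ^ D.p = 1 := by rw [sig, ← map_pow, hD.sigma_pow, map_one]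

theorem sig_ne_one : D.sig ≠ 1 := by
  intro e
  refine hD.sigma_ne (MonsterPair.eq_one_of_mem_signSub ?_)
  rw [sig] at e
  rw [e]
  exact one_mem _

/-- The representative, as a lattice vector. -/
def rep (x : Fin 8 → ZMod 2) : leechLattice := ⟨D.repFun x, mem_of_inLat (hD.rep_mem x)⟩

theorem val_add (a b : ZMod 2) (c : Cl) : (a + b).val • c = a.val • c + b.val • c :=
  val_nsmul_add a b c

/-- The coordinates of the fixed classes. -/
def phi : (Fin 8 → ZMod 2) →+ Cl :=
  AddMonoidHom.mk' (fun x => ∑ k, (x k).val • cls (rep hD (unit8 k))) fun x y => by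
    rw [← Finset.sum_add_distrib]
    exact Finset.sum_congr rfl fun k _ => val_nsmul_add _ _ _

theorem phi_eq (x : Fin 8 → ZMod 2) : phi hD x = cls (rep hD x) := by
  let cl : leechLattice →+ Cl := QuotientAddGroup.mk' _
  have hc : phi hD x = cls (∑ k, (x k).val • rep hD (unit8 k)) := by
    show ∑ k, (x k).val • cl (rep hD (unit8 k)) = cl _
    rw [map_sum]
    simp only [map_nsmul]
  rw [hc]
  refine (cls_of_half ?_).symm
  have : ((∑ k, (x k).val • rep hD (unit8 k) : leechLattice) : Vec) = D.combFun x := by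
    funext p
    rw [AddSubmonoidClass.coe_finsetSum, Finset.sum_apply, combFun]
    refine Finset.sum_congr rfl fun k _ => ?_
    rw [AddSubmonoidClass.coe_nsmul, Pi.smul_apply, nsmul_eq_mul]
    rfl
  rw [this]
  exact hD.rep_comb x

theorem phi_injective : Function.Injective (phi hD) := by
  refine (injective_iff_map_eq_zero (phi hD)).2 fun x hx => ?_
  by_contra hne
  obtain ⟨h1, h2⟩ := hD.rep_norm x hne
  exact h2 (eq_zero_of_short (v := rep hD x) h1 ((phi_eq hD x).symm.trans hx))

theorem phi_fixed (x : Fin 8 → ZMod 2) (v : leechLattice) (h : cls v = phi hD x) :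
    cls (D.sig • v) = cls v := by
  rw [MonsterPair.cls_smul D.sig (h.trans (phi_eq hD x)), h.trans (phi_eq hD x)]
  exact cls_of_half (by rw [sig_smul hD]; exact hD.rep_fixed x)

/-- The trace. -/
def trL (v : leechLattice) : leechLattice := ∑ k ∈ Finset.range D.p, D.sig ^ k • v

theorem pow_smul_coe (k : ℕ) (v : leechLattice) :
    ((D.sig ^ k • v : leechLattice) : Vec) = D.sigFun^[k] (v : Vec) := by
  induction k with
  | zero => rw [pow_zero, one_smul]; rfl
  | succ k ih => rw [pow_succ', mul_smul, sig_smul hD, ih, Function.iterate_succ_apply']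

theorem trL_coe (v : leechLattice) : (trL (D := D) v : Vec) = D.trFun (v : Vec) := by
  funext q
  rw [trL, AddSubmonoidClass.coe_finsetSum, Finset.sum_apply, trFun]
  exact Finset.sum_congr rfl fun k _ => congrFun (pow_smul_coe hD k v) q

theorem trL_add (v w : leechLattice) : trL (D := D) (v + w) = trL (D := D) v + trL (D := D) w := by
  simp only [trL, smul_add', Finset.sum_add_distrib]

/-- The vectors whose trace lies in the span. -/
def good : AddSubgroup Vec :=
  let f : leechLattice →+ Cl :=
    (QuotientAddGroup.mk' _).comp (AddMonoidHom.mk' (trL (D := D)) (trL_add hD))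
  (AddSubgroup.comap f (phi hD).range).map leechLattice.subtype

theorem mem_good {w : Vec} :
    w ∈ good hD ↔ ∃ v : leechLattice, (v : Vec) = w ∧ ∃ x, cls (trL (D := D) v) = phi hD x := by
  constructor
  · rintro ⟨v, ⟨x, hx⟩, rfl⟩
    exact ⟨v, rfl, x, hx.symm⟩
  · rintro ⟨v, rfl, x, hx⟩
    exact ⟨v, ⟨x, hx.symm⟩, rfl⟩

theorem good_of_test {w : Vec} (hw : w ∈ leechLattice) {m : ℕ}
    (h : half (D.trFun w) (D.repFun (bit8 m)) = true) : w ∈ good hD :=
  (mem_good hD).2 ⟨⟨w, hw⟩, rfl, bit8 m, by
    rw [phi_eq hD]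
    exact cls_of_half (by rw [trL_coe hD]; exact h)⟩

theorem le_good : leechLattice ≤ good hD := by
  refine le_of_gens (good hD) (good_of_test hD (mem_of_inLat gens_lattice.1) hD.odd_trace) ?_ ?_
  · intro i hi t ht
    simp only [List.mem_cons, List.not_mem_nil, or_false] at ht
    rcases ht with rfl | rfl
    · exact good_of_test hD (mem_of_inLat (gens_lattice.2.1 i hi).1) (hD.pair_trace i hi).1
    · exact good_of_test hD (mem_of_inLat (gens_lattice.2.1 i hi).2) (hD.pair_trace i hi).2
  · intro b hb
    obtain ⟨k, hk, rfl⟩ := List.getElem_of_mem hb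
    have hk' : k < 12 := by simpa [basisMasks] using hk
    rw [← List.getD_eq_getElem _ 0 hk]
    exact good_of_test hD (mem_of_inLat (gens_lattice.2.2 ⟨k, hk'⟩)) (hD.code_trace ⟨k, hk'⟩)

theorem cls_pow_fixed {v : leechLattice} (hv : cls (D.sig • v) = cls v) (k : ℕ) :
    cls (D.sig ^ k • v) = cls v := by
  induction k with
  | zero => rw [pow_zero, one_smul]
  | succ k ih => rw [pow_succ', mul_smul]; exact (MonsterPair.cls_smul D.sig ih).trans hv

/-- The fixed classes are the eight-dimensional span. -/
theorem exists_phi {v : leechLattice} (hv : cls (D.sig • v) = cls v) : ∃ x, cls v = phi hD x := by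
  obtain ⟨v', hv', x, hx⟩ := (mem_good hD).1 (le_good hD v.2)
  obtain rfl : v' = v := Subtype.ext hv'
  refine ⟨x, ?_⟩
  let cl : leechLattice →+ Cl := QuotientAddGroup.mk' _
  have e : cls (trL (D := D) v') = D.p • cls v' := by
    show cl (∑ k ∈ Finset.range D.p, D.sig ^ k • v') = _
    rw [map_sum, Finset.sum_congr rfl fun k _ => show cl (D.sig ^ k • v') = cls v' from cls_pow_fixed hD hv k,
      Finset.sum_const, Finset.card_range]
  obtain ⟨m, hm⟩ := hD.prime.odd_of_ne_two hD.odd
  rw [← hx, e, hm, add_nsmul, one_nsmul, mul_nsmul, two_nsmul, cls_two, nsmul_zero, zero_add]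

/-- The fixed classes, as a set of 256 elements. -/
theorem card_fixed : Nat.card {c : Cl // ∃ v, cls v = c ∧ cls (D.sig • v) = cls v} = 2 ^ (2 * 4) := by
  let f : (Fin 8 → ZMod 2) → {c : Cl // ∃ v, cls v = c ∧ cls (D.sig • v) = cls v} := fun x =>
    ⟨phi hD x, rep hD x, (phi_eq hD x).symm, phi_fixed hD x _ (phi_eq hD x).symm⟩
  rw [← Nat.card_eq_of_bijective f ⟨fun a b h => phi_injective hD (congrArg Subtype.val h), ?_⟩,
    Nat.card_eq_fintype_card, Fintype.card_fun, Fintype.card_fin, ZMod.card]
  rintro ⟨c, v, rfl, hv⟩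
  obtain ⟨x, hx⟩ := exists_phi hD hv
  exact ⟨x, Subtype.ext hx.symm⟩

/-- The representatives of squared length 64 are the only candidates for that type. -/
theorem norm_of_type {v : leechLattice} (hv : sqNorm (v : Vec) = 64) {x : Fin 8 → ZMod 2}
    (hc : cls v = phi hD x) : sqNorm (D.repFun x) = 64 := by
  have hx : x ≠ 0 := by
    rintro rfl
    rw [map_zero] at hc
    have := eq_zero_of_short hv.le hc
    omega
  obtain ⟨h1, h2⟩ := hD.rep_norm x hx
  by_contra hne
  have h16 := sixteen_dvd_sqNorm (rep hD x).2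
  have hsh : sqNorm (D.repFun x) ≤ 48 := by
    change (16 : ℤ) ∣ sqNorm (D.repFun x) at h16
    omega
  rcases short_eq_of_cls leech_shells (x := rep hD x) (y := v) (by rw [lform_self]; exact hsh)
    (by rw [lform_self]; omega) (hc.trans (phi_eq hD x)) with e | e
  · rw [e] at hv; exact hne hv
  · rw [e] at hv
    apply hne
    rw [← hv, AddSubgroup.coe_neg]
    simp [sqNorm, rep]

theorem frame_class : cls (frame none) = phi hD (bit8 D.frameIdx) := by
  rw [phi_eq hD]
  exact cls_of_half (by rw [frame_coe]; exact hD.frame_rep)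

end Dat

end Cfsg.Agent.LargeExtra.MonsterSpread
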