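import Cfsg.Agent.Lib.LargeExtra.MonsterSpread.Cent
import Cfsg.Agent.Lib.LargeExtra.MonsterCent.SevenSetup

/-!
A subgroup of odd prime order centralising the involution and a conjugate of it in the extraspecial
group, lying over the given element of the automorphism group of the lattice: the identifications,
the fusion of the involution by the centralizer, and the setting in the quotient.
-/

set_option autoImplicit false
set_option maxRecDepth 10000
set_option linter.unusedSectionVars false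
set_option linter.style.haveILetI false

namespace Cfsg.Agent.LargeExtra.MonsterSpread

open Subgroup Cfsg.Agent.Leech.Classes Cfsg.Agent.MonsterOrbits Cfsg.Agent.LargeExtra
  Cfsg.Agent.LeechAut.Basic Cfsg.Agent.LeechAut.Cross Cfsg.Agent.LeechAut.Maximal
  Cfsg.Agent.LeechAut.Co1 Cfsg.Agent.LargeExtra.MonsterCent Cfsg.Agent.LargeExtra.MonsterCent.Seven
  Cfsg.Agent.MonsterPair
open scoped commutatorElement Pointwise

/-- In every Sylow subgroup containing it the element fails to commute with something. -/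
def NC (p : ℕ) {A : Type*} [Group A] (u : A) : Prop :=
  ∀ P : Sylow p A, u ∈ P → ∃ y ∈ P, y * u ≠ u * y

section Kernels

variable {A B : Type*} [Group A] [Finite A] [Group B] [Finite B] {p : ℕ} [hp : Fact p.Prime]
  (hp2 : p ≠ 2) {f : A →* B}

include hp hp2

theorem factorization_of_two_ker (hf : Function.Surjective f) (hk : IsPGroup 2 f.ker) :
    (Nat.card A).factorization p = (Nat.card B).factorization p := by
  haveI : Fact (Nat.Prime 2) := ⟨Nat.prime_two⟩
  obtain ⟨n, hn⟩ := IsPGroup.iff_card.1 hk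
  have hc := Subgroup.card_mul_index f.ker
  rw [Subgroup.index_ker, MonoidHom.range_eq_top.2 hf, Subgroup.card_top, hn] at hc
  rw [← hc, Nat.factorization_mul (by positivity) Nat.card_pos.ne', Finsupp.add_apply,
    Nat.factorization_eq_zero_of_not_dvd fun h =>
      hp2 ((Nat.prime_dvd_prime_iff_eq hp.out Nat.prime_two).1 (hp.out.dvd_of_dvd_pow h)), zero_add]

theorem eq_one_of_mem {P : Subgroup A} (hP : IsPGroup p P) (hk : IsPGroup 2 f.ker) {c : A}
    (hc : c ∈ P) (hc' : f c = 1) : c = 1 := by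
  haveI : Fact (Nat.Prime 2) := ⟨Nat.prime_two⟩
  obtain ⟨a, ha⟩ := IsPGroup.iff_orderOf.1 hP ⟨c, hc⟩
  obtain ⟨b, hb⟩ := IsPGroup.iff_orderOf.1 hk (⟨c, MonoidHom.mem_ker.2 hc'⟩ : f.ker)
  rw [Subgroup.orderOf_mk] at ha hb
  have h : Nat.Coprime (p ^ a) (2 ^ b) :=
    Nat.Coprime.pow a b ((Nat.coprime_primes hp.out Nat.prime_two).2 hp2)
  rw [← ha, ← hb, Nat.coprime_self, orderOf_eq_one_iff] at h
  exact h

theorem NC.map (hf : Function.Surjective f) (hk : IsPGroup 2 f.ker) {u : A}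
    (hu : orderOf u = p) (h : NC p u) : NC p (f u) := by
  intro P hP
  set M := (P : Subgroup B).comap f with hM
  have huM : u ∈ M := hP
  have hzp : IsPGroup p (Subgroup.zpowers (⟨u, huM⟩ : M)) := by
    refine IsPGroup.of_card (n := 1) ?_
    rw [Nat.card_zpowers, Subgroup.orderOf_mk, hu, pow_one]
  obtain ⟨Q0, hQ0⟩ := hzp.exists_le_sylow
  have hMcard : (Nat.card M).factorization p = (Nat.card A).factorization p := by
    have hi : M.index = (P : Subgroup B).index := Subgroup.index_comap_of_surjective _ hf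
    rw [← Subgroup.card_mul_index M, Nat.factorization_mul Nat.card_pos.ne' Subgroup.index_ne_zero_of_finite,
      Finsupp.add_apply, hi, Nat.factorization_eq_zero_of_not_dvd P.not_dvd_index, add_zero]
  obtain ⟨y, hy, hne⟩ := h (Sylow.ofCard ((Q0 : Subgroup M).map M.subtype) (by
    rw [Subgroup.card_map_of_injective (Subgroup.subtype_injective _), Sylow.card_eq_multiplicity, hMcard]))
    ⟨⟨u, huM⟩, hQ0 (mem_zpowers _), rfl⟩
  obtain ⟨y', hy', rfl⟩ := hy
  refine ⟨f y'.1, y'.2, fun e => hne ?_⟩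
  rw [← commutatorElement_eq_one_iff_mul_comm]
  refine eq_one_of_mem hp2 (P := (Q0 : Subgroup M).map M.subtype) (Q0.2.map _) hk ?_ ?_
  · have hu' : u ∈ (Q0 : Subgroup M).map M.subtype := ⟨⟨u, huM⟩, hQ0 (mem_zpowers _), rfl⟩
    have hy'' : (y' : A) ∈ (Q0 : Subgroup M).map M.subtype := ⟨y', hy', rfl⟩
    exact mul_mem (mul_mem (mul_mem hy'' hu') (inv_mem hy'')) (inv_mem hu')
  · rw [map_commutatorElement, commutatorElement_eq_one_iff_mul_comm]
    exact e

theorem orderOf_map (hk : IsPGroup 2 f.ker) {u : A} (hu : orderOf u = p) : orderOf (f u) = p := by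
  refine orderOf_eq_prime (by rw [← map_pow, ← hu, pow_orderOf_eq_one, map_one]) fun e => ?_
  have h1 := eq_one_of_mem hp2 (P := Subgroup.zpowers u)
    (IsPGroup.of_card (n := 1) (by rw [Nat.card_zpowers, hu, pow_one])) hk (mem_zpowers u) e
  rw [h1, orderOf_one] at hu
  exact hp.out.one_lt.ne hu

/-- Two subgroups of order `p` with conjugate images are conjugate. -/
theorem conj_of_map (hf : Function.Surjective f) (hk : IsPGroup 2 f.ker) {u v : A}
    (hu : orderOf u = p) (hv : orderOf v = p) (h : ∃ k, k * f v * k⁻¹ ∈ Subgroup.zpowers (f u)) :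
    ∃ l, l * v * l⁻¹ ∈ Subgroup.zpowers u := by
  haveI : Fact (Nat.Prime 2) := ⟨Nat.prime_two⟩
  obtain ⟨k, hk'⟩ := h
  obtain ⟨l0, rfl⟩ := hf k
  set M := (Subgroup.zpowers (f u)).comap f with hM
  have huM : u ∈ M := mem_zpowers (f u)
  have hvM : l0 * v * l0⁻¹ ∈ M := by
    show f (l0 * v * l0⁻¹) ∈ Subgroup.zpowers (f u)
    rw [map_mul, map_mul, map_inv]
    exact hk'
  let g : M →* B := f.comp M.subtype
  have hg : IsPGroup 2 g.ker :=
    hk.of_injective (MonoidHom.codRestrict (M.subtype.comp g.ker.subtype) f.ker fun x => x.2)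
      fun a b e => Subtype.ext (Subtype.ext (congrArg (fun r : f.ker => (r : A)) e))
  have hr : g.range = Subgroup.zpowers (f u) := by
    rw [MonoidHom.range_comp, Subgroup.range_subtype, hM, Subgroup.map_comap_eq,
      MonoidHom.range_eq_top.2 hf, top_inf_eq]
  have hMv : (Nat.card M).factorization p = 1 := by
    obtain ⟨n, hn⟩ := IsPGroup.iff_card.1 hg
    have hc := Subgroup.card_mul_index g.ker
    rw [Subgroup.index_ker, hr, Nat.card_zpowers, orderOf_map hp2 hk hu, hn] at hc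
    rw [← hc, Nat.factorization_mul (by positivity) hp.out.ne_zero, Finsupp.add_apply,
      Nat.factorization_eq_zero_of_not_dvd fun h =>
        hp2 ((Nat.prime_dvd_prime_iff_eq hp.out Nat.prime_two).1 (hp.out.dvd_of_dvd_pow h)),
      hp.out.factorization_self, zero_add]
  have hsyl : ∀ w : M, orderOf w = p → ∃ P : Sylow p M, (P : Subgroup M) = Subgroup.zpowers w := by
    intro w hw
    refine ⟨Sylow.ofCard (Subgroup.zpowers w) ?_, rfl⟩
    rw [Nat.card_zpowers, hw, hMv, pow_one]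
  have hvo : orderOf (l0 * v * l0⁻¹) = p := by
    rw [← hv]
    exact orderOf_injective (MulAut.conj l0).toMonoidHom (MulAut.conj l0).injective v
  obtain ⟨P₁, hP₁⟩ := hsyl ⟨u, huM⟩ (by rw [Subgroup.orderOf_mk, hu])
  obtain ⟨P₂, hP₂⟩ := hsyl ⟨_, hvM⟩ (by rw [Subgroup.orderOf_mk, hvo])
  obtain ⟨l, hlP⟩ := MulAction.exists_smul_eq M P₂ P₁
  have hmem : l * ⟨l0 * v * l0⁻¹, hvM⟩ * l⁻¹ ∈ (P₁ : Subgroup M) := by
    rw [← hlP, Sylow.coe_subgroup_smul, Subgroup.mem_pointwise_smul_iff_inv_smul_mem, ← map_inv,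
      MulAut.smul_def, MulAut.conj_apply, hP₂]
    convert mem_zpowers (⟨l0 * v * l0⁻¹, hvM⟩ : M) using 1
    group
  rw [hP₁] at hmem
  obtain ⟨i, hi⟩ := hmem
  refine ⟨(l : A) * l0, i, ?_⟩
  have := congrArg (fun r : M => (r : A)) hi
  simp only [Subgroup.coe_zpow, Subgroup.coe_mul, Subgroup.coe_inv] at this
  show u ^ i = _
  rw [this]
  group

end Kernels

theorem conj_pair {G : Type*} [Group G] {t z x u : G} (h1 : t * z * t⁻¹ = x) (h2 : t * x * t⁻¹ = z)
    (hu : u ∈ Subgroup.centralizer ({z, x} : Set G)) :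
    t * u * t⁻¹ ∈ Subgroup.centralizer ({z, x} : Set G) := by
  refine mem_centralizer_iff.2 ?_
  rintro w (rfl | rfl)
  · rw [← h2]
    calc t * x * t⁻¹ * (t * u * t⁻¹) = t * (x * u) * t⁻¹ := by group
      _ = t * (u * x) * t⁻¹ := by rw [mem_centralizer_iff.1 hu x (by simp)]
      _ = t * u * t⁻¹ * (t * x * t⁻¹) := by group
  · rw [← h1]
    calc t * z * t⁻¹ * (t * u * t⁻¹) = t * (z * u) * t⁻¹ := by group
      _ = t * (u * z) * t⁻¹ := by rw [mem_centralizer_iff.1 hu z (by simp)]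
      _ = t * u * t⁻¹ * (t * z * t⁻¹) := by group

namespace Dat

variable {D : Dat} (hD : D.OK)

/-- A conjugate has the given element as a power. -/
def Hits (D : Dat) (c : crossOne) : Prop :=
  ∃ (k : crossOne) (i : ℤ), (((k * c * k⁻¹) ^ i : crossOne) : Cfsg.Spor.Co1) = MonsterPair.toCo1 D.sig

include hD

theorem hits_pair {c c' : crossOne} (hc : orderOf c = D.p) (hc' : orderOf c' = D.p)
    (h : D.Hits c) (h' : D.Hits c') : ∃ k, k * c' * k⁻¹ ∈ Subgroup.zpowers c := by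
  haveI := finite_Co0
  obtain ⟨k₁, i₁, h₁⟩ := h
  obtain ⟨k₂, i₂, h₂⟩ := h'
  have key : ∀ (k c : crossOne) (i : ℤ), orderOf c = D.p →
      ((((k * c * k⁻¹) ^ i : crossOne)) : Cfsg.Spor.Co1) = MonsterPair.toCo1 D.sig →
      Subgroup.zpowers ((k * c * k⁻¹) ^ i) = Subgroup.zpowers (k * c * k⁻¹) := by
    intro k c i hc he
    refine Subgroup.eq_of_le_of_card_ge (Subgroup.zpowers_le.2 (Subgroup.zpow_mem _ (mem_zpowers _) i)) ?_
    rw [Nat.card_zpowers, Nat.card_zpowers, ← Subgroup.orderOf_coe ((k * c * k⁻¹) ^ i), he,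
      orderOf_toCo1 hD]
    have : orderOf (k * c * k⁻¹) = orderOf c :=
      orderOf_injective (MulAut.conj k).toMonoidHom (MulAut.conj k).injective c
    rw [this, hc]
  have hm : k₂ * c' * k₂⁻¹ ∈ Subgroup.zpowers (k₁ * c * k₁⁻¹) := by
    rw [← key k₁ c i₁ hc h₁, show (k₁ * c * k₁⁻¹) ^ i₁ = (k₂ * c' * k₂⁻¹) ^ i₂ from
      Subtype.ext (h₁.trans h₂.symm), key k₂ c' i₂ hc' h₂]
    exact mem_zpowers _
  obtain ⟨j, hj⟩ := hm
  refine ⟨k₁⁻¹ * k₂, j, ?_⟩
  show c ^ j = _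
  have hj' : (k₁ * c * k₁⁻¹) ^ j = k₂ * c' * k₂⁻¹ := hj
  rw [conj_zpow] at hj'
  calc c ^ j = k₁⁻¹ * (k₁ * c ^ j * k₁⁻¹) * k₁ := by group
    _ = k₁⁻¹ * (k₂ * c' * k₂⁻¹) * k₁ := by rw [hj']
    _ = k₁⁻¹ * k₂ * c' * (k₁⁻¹ * k₂)⁻¹ := by group

variable {G : Type*} [Group G] [Finite G] {z : G}
  {Q : Subgroup (Subgroup.centralizer ({z} : Set G))} [Q.Normal]
  {e : (Subgroup.centralizer ({z} : Set G)) ⧸ Q ≃* Cfsg.Spor.Co1}
  {ψ : Cfsg.leechLattice → Q ⧸ Subgroup.center Q}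

omit hD in
/-- The map of the centralizer of the pair, with its kernel. -/
theorem pair_hom (hS : Cfsg.IsExtraspecialCentralizerSetting z Q 12)
    (e' : (Subgroup.centralizer ({z} : Set G)) ⧸ Q ≃* Cfsg.Spor.Co1) {x : G}
    (himg : (imgC Q x).map e'.toMonoidHom = crossOne) :
    ∃ f : ↥(Subgroup.centralizer ({z, x} : Set G)) →* crossOne, Function.Surjective f ∧ IsPGroup 2 f.ker ∧
      ∀ y : ↥(Subgroup.centralizer ({z, x} : Set G)), ∀ hy : (y : G) ∈ Subgroup.centralizer ({z} : Set G),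
        (f y : Cfsg.Spor.Co1) = e' (QuotientGroup.mk ⟨y, hy⟩) := by
  obtain ⟨f, hf, hfe⟩ := pair_map e' himg
  refine ⟨f, hf, fun y => ?_, hfe⟩
  have hC : ((y : ↥(Subgroup.centralizer ({z, x} : Set G))) : G) ∈ Subgroup.centralizer ({z} : Set G) :=
    Subgroup.centralizer_le (by simp) y.1.2
  have h1 : e' (QuotientGroup.mk ⟨_, hC⟩) = 1 := by
    rw [← hfe y.1 hC, show f y.1 = 1 from y.2]; rfl
  rw [map_eq_one_iff e' e'.injective, QuotientGroup.eq_one_iff] at h1
  obtain ⟨k, hk⟩ := hS.2.2.1.1.1 ⟨_, h1⟩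
  refine ⟨k, Subtype.ext (Subtype.ext ?_)⟩
  exact congrArg (fun u : Q => up u) hk

/-- The condition on the subgroup: images of automorphic copies of its generators lie over the
given element up to conjugation. -/
def Good (D : Dat) (z x b : G) : Prop :=
  ∀ (f : ↥(Subgroup.centralizer ({z, x} : Set G)) →* crossOne), Function.Surjective f → IsPGroup 2 f.ker →
    ∀ (φ : ↥(Subgroup.centralizer ({z, x} : Set G)) ≃* ↥(Subgroup.centralizer ({z, x} : Set G)))
      (u : ↥(Subgroup.centralizer ({z, x} : Set G))), (u : G) ∈ Subgroup.zpowers b → orderOf u = D.p →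
      D.Hits (f (φ u))

/-- The identifications can be chosen so that the subgroup lies over the given element. -/
theorem exists_lifts (hS : Cfsg.IsExtraspecialCentralizerSetting z Q 12)
    (hψ : Cfsg.IsLeechModTwoIso Q e ψ) {x : G} (hxQ : x ∈ bigQ Q) (hx : IsConj z x) (hxz : x ≠ z)
    {b₀ : G} (hbo : orderOf b₀ = D.p) (hb : b₀ ∈ Subgroup.centralizer ({z, x} : Set G))
    (hgood : D.Good z x b₀) :
    ∃ (e' : (Subgroup.centralizer ({z} : Set G)) ⧸ Q ≃* Cfsg.Spor.Co1)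
      (ψ' : Cfsg.leechLattice → Q ⧸ Subgroup.center Q) (b : G),
      Cfsg.IsLeechModTwoIso Q e' ψ' ∧ Lifts e' b D.sig D.p ∧ Subgroup.zpowers b = Subgroup.zpowers b₀ := by
  haveI : Fact D.p.Prime := ⟨hD.prime⟩
  haveI := finite_Co0
  obtain ⟨e₁, ψ₁, hψ₁, himg⟩ := exists_frame hS hψ hxQ hx hxz
  obtain ⟨f, hf, hker, hfe⟩ := pair_hom hS e₁ himg
  have hbC : b₀ ∈ Subgroup.centralizer ({z} : Set G) := Subgroup.centralizer_le (by simp) hb
  set c : crossOne := f ⟨b₀, hb⟩ with hc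
  have hce : (c : Cfsg.Spor.Co1) = e₁ (QuotientGroup.mk ⟨b₀, hbC⟩) := hfe _ hbC
  have hco : orderOf c = D.p := orderOf_map hD.odd hker (by rw [Subgroup.orderOf_mk, hbo])
  obtain ⟨k, i, hi⟩ := hgood f hf hker (MulEquiv.refl _) ⟨b₀, hb⟩ (mem_zpowers b₀)
    (by rw [Subgroup.orderOf_mk, hbo])
  change (((k * c * k⁻¹) ^ i : crossOne) : Cfsg.Spor.Co1) = MonsterPair.toCo1 D.sig at hi
  have hne : ¬ (D.p : ℤ) ∣ i := by
    intro hd
    have h1 : c ^ i = 1 := orderOf_dvd_iff_zpow_eq_one.1 (by rw [hco]; exact hd)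
    rw [conj_zpow, h1, mul_one, mul_inv_cancel, OneMemClass.coe_one] at hi
    have := orderOf_toCo1 hD
    rw [← hi, orderOf_one] at this
    exact hD.prime.one_lt.ne this
  have hbi : orderOf (b₀ ^ i) = D.p := by
    refine orderOf_eq_prime ?_ fun e1 => hne ?_
    · rw [← zpow_natCast, ← zpow_mul, mul_comm, zpow_mul, zpow_natCast, ← hbo, pow_orderOf_eq_one, one_zpow]
    · rw [← hbo]
      exact orderOf_dvd_iff_zpow_eq_one.2 e1
  obtain ⟨k₀, hk₀⟩ := QuotientGroup.mk_surjective (s := Subgroup.center Cfsg.Co0) (k : Cfsg.Spor.Co1)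
  refine ⟨_, _, b₀ ^ i, twist hψ₁ k₀, ⟨hD.prime, hD.odd, hbi, zpow_mem hbC i, ?_⟩, ?_⟩
  · show MonsterPair.toCo1 k₀ * e₁ (QuotientGroup.mk ⟨b₀ ^ i, _⟩) * (MonsterPair.toCo1 k₀)⁻¹ =
      MonsterPair.toCo1 D.sig
    have e1 : e₁ (QuotientGroup.mk (⟨b₀ ^ i, zpow_mem hbC i⟩ : Subgroup.centralizer ({z} : Set G))) =
        (c : Cfsg.Spor.Co1) ^ i := by
      rw [hce, ← map_zpow, ← QuotientGroup.mk_zpow]
      exact congrArg (fun u => e₁ (QuotientGroup.mk u)) (Subtype.ext (by simp))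
    rw [e1, show MonsterPair.toCo1 k₀ = (k : Cfsg.Spor.Co1) from hk₀, ← conj_zpow]
    exact hi
  · exact Subgroup.eq_of_le_of_card_ge (Subgroup.zpowers_le.2 (Subgroup.zpow_mem _ (mem_zpowers b₀) i))
      (by rw [Nat.card_zpowers, Nat.card_zpowers, hbo, hbi])

section

variable (hS : Cfsg.IsExtraspecialCentralizerSetting z Q 12)
  (hψ : Cfsg.IsLeechModTwoIso Q e ψ) {b : G} (hL : Lifts e b D.sig D.p)
  (hpow : ∀ k : ℕ, ¬ D.p ∣ k → ∃ m : Cfsg.Spor.Co1,
    m * MonsterPair.toCo1 D.sig * m⁻¹ = MonsterPair.toCo1 D.sig ^ k)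

include hS hψ hL hpow

/-- All automorphisms of the group generated by `b` are induced in the centralizer of `z`. -/
theorem exists_inner_pow {k : ℕ} (hk : ¬ D.p ∣ k) :
    ∃ m ∈ Subgroup.centralizer ({z} : Set G), m * b * m⁻¹ = b ^ k := by
  obtain ⟨m, hm⟩ := hpow k hk
  obtain ⟨c, rfl⟩ := e.surjective m
  obtain ⟨h, hh, -, hhb⟩ := exists_lift hS hL.prime hL.odd hL.order hL.mem hk (c := c) (by
    apply e.injective
    rw [map_mul, map_mul, map_inv, map_pow, hL.img]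
    exact hm)
  exact ⟨h, hh, hhb⟩

/-- The centralizer of `b` moves `z` to the conjugate. -/
theorem exists_fuse {x : G} (hx : x ∈ fixQ Q b) (hxc : IsConj z x) (hxz : x ≠ z)
    (hgood : D.Good z x b) : ∃ d ∈ centB b, d * z * d⁻¹ = x := by
  haveI : Fact D.p.Prime := ⟨hD.prime⟩
  haveI := finite_Co0
  have H := ctr_bigQ hS
  obtain ⟨g, hg⟩ := isConj_iff.1 hxc
  have hgQ : g * z * g⁻¹ ∈ bigQ Q := hg.symm ▸ hx.1
  have P := Pair.mk' H hgQ (by rw [hg]; exact hxz)
  have h32 : 32 ≤ Nat.card (bigQ Q) := by rw [card_bigQ, hS.2.2.2.1]; norm_num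
  obtain ⟨y, hy, hye⟩ := P.z_mem' h32
  have hye' : g * y * g⁻¹ = z := hye
  have hy' : y = g⁻¹ * z * g := by rw [← hye']; group
  have hyz : y ≠ z := by
    intro e1
    rw [e1] at hye'
    exact hxz (hg.symm.trans hye')
  obtain ⟨hyC, hyQ⟩ := mem_bigQ.1 hy
  obtain ⟨hxC, hxQ⟩ := mem_bigQ.1 hx.1
  have hyc : IsConj z y := isConj_iff.2 ⟨g⁻¹, by rw [inv_inv, hy']⟩
  obtain ⟨h, hh, hhe⟩ := conj_of_ty hS hψ (x := ⟨⟨y, hyC⟩, hyQ⟩) (y := ⟨⟨x, hxC⟩, hxQ⟩)
    (Or.inr (Or.inr rfl)) (ty_conj hS hψ (x := ⟨⟨y, hyC⟩, hyQ⟩) hyc hyz)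
    (ty_conj hS hψ (x := ⟨⟨x, hxC⟩, hxQ⟩) hxc hxz)
  change h * y * h⁻¹ = x at hhe
  set t := g * h⁻¹ with ht
  have htz : t * z * t⁻¹ = x := by
    have hz' : h⁻¹ * z * h = z := by
      rw [mul_assoc, ← mem_centralizer_singleton_iff.1 hh, inv_mul_cancel_left]
    calc t * z * t⁻¹ = g * (h⁻¹ * z * h) * g⁻¹ := by rw [ht]; group
      _ = x := by rw [hz', hg]
  have htx : t * x * t⁻¹ = z := by
    calc t * x * t⁻¹ = g * (h⁻¹ * x * h) * g⁻¹ := by rw [ht]; group
      _ = g * y * g⁻¹ := by rw [← hhe]; group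
      _ = z := hye'
  set L := Subgroup.centralizer ({z, x} : Set G)
  have hbL : b ∈ L := by
    refine mem_centralizer_iff.2 ?_
    rintro u (rfl | rfl)
    · exact (mem_centralizer_singleton_iff.1 hL.mem).symm
    · exact mem_centralizer_singleton_iff.1 hx.2
  have htz' : t⁻¹ * z * t⁻¹⁻¹ = x := by rw [← htx]; group
  have htx' : t⁻¹ * x * t⁻¹⁻¹ = z := by rw [← htz]; group
  let φ : L ≃* L :=
    { toFun := fun u => ⟨t * (u : G) * t⁻¹, conj_pair htz htx u.2⟩
      invFun := fun u => ⟨t⁻¹ * (u : G) * t⁻¹⁻¹, conj_pair htz' htx' u.2⟩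
      left_inv := fun u => Subtype.ext (by show t⁻¹ * (t * (u : G) * t⁻¹) * t⁻¹⁻¹ = u; group)
      right_inv := fun u => Subtype.ext (by show t * (t⁻¹ * (u : G) * t⁻¹⁻¹) * t⁻¹ = u; group)
      map_mul' := fun u v => Subtype.ext (by
        show t * ((u : G) * v) * t⁻¹ = t * (u : G) * t⁻¹ * (t * (v : G) * t⁻¹); group) }
  obtain ⟨e', ψ', -, himg⟩ := exists_frame hS hψ hx.1 hxc hxz
  obtain ⟨f, hf, hker, -⟩ := pair_hom hS e' himg
  set bL : L := ⟨b, hbL⟩ with hbLdef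
  have hob : orderOf bL = D.p := by rw [hbLdef, Subgroup.orderOf_mk, hL.order]
  have hob' : orderOf (φ bL) = D.p := by rw [MulEquiv.orderOf_eq, hob]
  obtain ⟨l, i, hi⟩ := conj_of_map hD.odd hf hker hob hob'
    (hits_pair hD (orderOf_map hD.odd hker hob) (orderOf_map hD.odd hker hob')
      (hgood f hf hker (MulEquiv.refl _) bL (mem_zpowers b) hob)
      (hgood f hf hker φ bL (mem_zpowers b) hob))
  change bL ^ i = l * φ bL * l⁻¹ at hi
  set n := (l : G) * t with hn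
  have hnb : n * b * n⁻¹ = b ^ i := by
    have := congrArg (fun u : L => (u : G)) hi
    simp only [Subgroup.coe_zpow, Subgroup.coe_mul, Subgroup.coe_inv] at this
    change b ^ i = (l : G) * (t * b * t⁻¹) * (l : G)⁻¹ at this
    rw [this, hn]; group
  obtain ⟨hlz, hlx⟩ : (l : G) * z = z * l ∧ (l : G) * x = x * l :=
    ⟨(mem_centralizer_iff.1 l.2 z (by simp)).symm, (mem_centralizer_iff.1 l.2 x (by simp)).symm⟩
  have hnz : n * z * n⁻¹ = x := by
    calc n * z * n⁻¹ = (l : G) * (t * z * t⁻¹) * (l : G)⁻¹ := by rw [hn]; group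
      _ = x := by rw [htz, hlx, mul_inv_cancel_right]
  -- compensate the automorphism
  set k := (i % D.p).toNat with hk
  have hki : b ^ i = b ^ k := by
    have h0 : (0 : ℤ) ≤ i % D.p := Int.emod_nonneg i (by exact_mod_cast hD.prime.ne_zero)
    rw [← zpow_natCast, hk, Int.toNat_of_nonneg h0, ← zpow_mod_orderOf b i, hL.order]
  have hk0 : ¬ D.p ∣ k := by
    intro hd
    obtain ⟨j, hj⟩ := hd
    have h1 : b ^ i = 1 := by
      rw [hki, hj, pow_mul, show b ^ D.p = 1 from hL.order ▸ pow_orderOf_eq_one b, one_pow]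
    rw [h1, mul_inv_eq_one] at hnb
    have hb1 : b = 1 := mul_eq_left.1 hnb
    have := hL.order
    rw [hb1, orderOf_one] at this
    exact hD.prime.one_lt.ne this
  have hkz : (k : ZMod D.p) ≠ 0 := fun e1 => hk0 ((ZMod.natCast_eq_zero_iff _ _).1 e1)
  set j := ((k : ZMod D.p)⁻¹).val with hj
  have hjk : k * j % D.p = 1 := by
    have h1 : ((k * j : ℕ) : ZMod D.p) = ((1 : ℕ) : ZMod D.p) := by
      rw [Nat.cast_mul, hj, ZMod.natCast_zmod_val, mul_inv_cancel₀ hkz, Nat.cast_one]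
    have := (ZMod.natCast_eq_natCast_iff' _ _ _).1 h1
    rwa [Nat.one_mod_eq_one.2 hD.prime.ne_one] at this
  obtain ⟨m, hm, hmb⟩ := exists_inner_pow hD hS hψ hL hpow (k := j) (fun hd => by
    obtain ⟨q, hq⟩ := hd
    rw [hq, mul_left_comm, Nat.mul_mod_right] at hjk
    exact zero_ne_one hjk)
  refine ⟨n * m, mem_centB.2 (mul_inv_eq_iff_eq_mul.1 ?_), ?_⟩
  · calc n * m * b * (n * m)⁻¹ = n * (m * b * m⁻¹) * n⁻¹ := by group
      _ = (n * b * n⁻¹) ^ j := by rw [hmb, conj_pow]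
      _ = b := by
        rw [hnb, hki, ← pow_mul, ← pow_mod_orderOf, hL.order, hjk, pow_one]
  · calc n * m * z * (n * m)⁻¹ = n * (m * z * m⁻¹) * n⁻¹ := by group
      _ = x := by rw [mem_centralizer_singleton_iff.1 hm, mul_inv_cancel_right, hnz]

end

/-- The centralizer of the subgroup modulo it, with its extraspecial setting. -/
theorem setting_of_good {H : Subgroup (Equiv.Perm (Fin D.N))} (hH : H ≤ Subgroup.closure (Set.range D.perm))
    (hcard : Nat.card D.C0 ≤ 2 * D.p * Nat.card H) (hcore : Cfsg.pCore 2 H = ⊥)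
    (hpow : ∀ k : ℕ, ¬ D.p ∣ k → ∃ m : Cfsg.Spor.Co1,
      m * MonsterPair.toCo1 D.sig * m⁻¹ = MonsterPair.toCo1 D.sig ^ k)
    (hS : Cfsg.IsExtraspecialCentralizerSetting z Q 12) (hψ : Cfsg.IsLeechModTwoIso Q e ψ)
    {x : G} (hxQ : x ∈ bigQ Q) (hx : IsConj z x) (hxz : x ≠ z)
    {B : Subgroup G} (hB : B ≤ Subgroup.centralizer ({z, x} : Set G)) (hBp : Nat.card B = D.p)
    (hgood : ∀ b : G, b ∈ B → orderOf b = D.p → D.Good z x b)
    [hn : (B.subgroupOf (Subgroup.centralizer (B : Set G))).Normal] :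
    ∃ (w : ↥(Subgroup.centralizer (B : Set G)) ⧸ B.subgroupOf (Subgroup.centralizer (B : Set G)))
      (R : Subgroup (Subgroup.centralizer
        ({w} : Set (↥(Subgroup.centralizer (B : Set G)) ⧸ B.subgroupOf (Subgroup.centralizer (B : Set G))))))
      (_ : R.Normal), Cfsg.IsExtraspecialCentralizerSetting w R 4 ∧
      Nonempty ((Subgroup.centralizer
        ({w} : Set (↥(Subgroup.centralizer (B : Set G)) ⧸ B.subgroupOf (Subgroup.centralizer (B : Set G))))) ⧸ R ≃* H) := by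
  haveI : Fact D.p.Prime := ⟨hD.prime⟩
  obtain ⟨b₀, hb₀⟩ := exists_prime_orderOf_dvd_card' (G := B) D.p (by rw [hBp])
  have hbo : orderOf (b₀ : G) = D.p := (Subgroup.orderOf_coe b₀).trans hb₀
  have hBz : B = Subgroup.zpowers (b₀ : G) :=
    (Subgroup.eq_of_le_of_card_ge (Subgroup.zpowers_le.2 b₀.2) (by rw [hBp, Nat.card_zpowers, hbo])).symm
  obtain ⟨e', ψ', b, hψ', hL, hb⟩ :=
    exists_lifts hD hS hψ hxQ hx hxz hbo (hB b₀.2) (hgood _ b₀.2 hbo)
  obtain rfl : B = Subgroup.zpowers b := hBz.trans hb.symm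
  have hxb : x ∈ fixQ Q b :=
    ⟨hxQ, mem_centralizer_singleton_iff.2 (mem_centralizer_iff.1 (hB (mem_zpowers b)) x (by simp))⟩
  obtain ⟨d, hd, hde⟩ := exists_fuse hD hS hψ' hL hpow hxb hx hxz (hgood b (mem_zpowers b) hL.order)
  obtain ⟨R, hRn, hset, hiso, -⟩ := exists_setting hS hψ' hL (hn := hn) (w' := 4) (by norm_num)
    (card_fixed hD) ⟨d, hd, by rw [hde]; exact hxQ, by rw [hde]; exact hxz⟩
    (rho1 hD hH hcard) (rho1_surjective hD hH hcard) (rho1_ker hD hH hcard)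
    (fun c k hk h => rho1_of_fix hD hH hcard c k hk h) hcore
  exact ⟨_, R, hRn, hset, hiso⟩

end Dat

end Cfsg.Agent.LargeExtra.MonsterSpread
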