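import Cfsg.Agent.Lib.LargeExtra.MonsterSpread.Common

/-!
An element of the automorphism group of the lattice acting by the packed table of the images of the
frame: a cheaper function to evaluate.
-/

set_option autoImplicit false

namespace Cfsg.Agent.LargeExtra.MonsterSpread

open Cfsg Cfsg.Agent.Golay.Basic Cfsg.Agent.Leech.Basic Cfsg.Agent.Leech.Classes Cfsg.Agent.Leech.Index
  Cfsg.Agent.LeechAut.Basic Cfsg.Agent.LeechAut.Cross

/-- An entry of a packed table. -/
def matEntry (M : List ℕ) (i q : GolayPt) : ℤ :=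
  ((((M.getD (ix i) 0) >>> (5 * ix q)) % 32 : ℕ) : ℤ) - 16

/-- The map of a packed table. -/
def matFun (M : List ℕ) (x : Vec) : Vec := fun q => (∑ i : GolayPt, x i * matEntry M i q) / 8

theorem matFun_smul (M : List ℕ) {g : Cfsg.Co0} {F : Vec → Vec}
    (hF : ∀ v : leechLattice, ((g • v : leechLattice) : Vec) = F (v : Vec))
    (h : ∀ i q : GolayPt, F (Pi.single i 8) q = matEntry M i q) (v : leechLattice) :
    ((g • v : leechLattice) : Vec) = matFun M (v : Vec) := by
  have h1 : (8 : ℤ) • (g • v) = ∑ i, (v : Vec) i • (g • frame i) := by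
    show (8 : ℤ) • actHom g v = ∑ i, (v : Vec) i • actHom g (frame i)
    rw [← map_zsmul, eight_smul, map_sum]
    exact Finset.sum_congr rfl fun i _ => by rw [map_zsmul]
  funext q
  have h2 := congrFun (congrArg Subtype.val h1) q
  rw [AddSubgroup.coe_zsmul, AddSubmonoidClass.coe_finsetSum, Pi.smul_apply, Finset.sum_apply,
    smul_eq_mul] at h2
  have h3 : (8 : ℤ) * ((g • v : leechLattice) : Vec) q = ∑ i, (v : Vec) i * matEntry M i q := by
    rw [h2]
    refine Finset.sum_congr rfl fun i _ => ?_
    rw [AddSubgroup.coe_zsmul, Pi.smul_apply, smul_eq_mul, hF, frame_coe, h]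
  rw [matFun, ← h3, Int.mul_ediv_cancel_left _ (by norm_num)]

end Cfsg.Agent.LargeExtra.MonsterSpread
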