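import Cfsg.Agent.Lib.LargeExtra.MonsterSpread.Matrix
import Cfsg.Agent.Lib.LargeExtra.MonsterSpread.ThreeData

/-!
The element of order three without fixed points: its centralizer in the automorphism group of the
lattice acts on nine sets of fixed classes as the alternating group of degree nine.
-/

set_option autoImplicit false
set_option maxRecDepth 100000
set_option maxHeartbeats 4000000
set_option Elab.async false
set_option linter.unusedSectionVars false
set_option linter.style.haveILetI false

namespace Cfsg.Agent.LargeExtra.MonsterSpread.Three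

open Cfsg Cfsg.Agent.Golay.Basic Cfsg.Agent.Golay.Perm Cfsg.Agent.Golay.M24 Cfsg.Agent.Golay.M24Data
  Cfsg.Agent.Golay.Cert Cfsg.Agent.Leech.Basic Cfsg.Agent.Leech.Classes Cfsg.Agent.Leech.Mod2
  Cfsg.Agent.Leech.Index Cfsg.Agent.Leech.Gen Cfsg.Agent.LeechAut.Gens Cfsg.Agent.LeechAut.Basic
  Cfsg.Agent.LeechAut.Cross Cfsg.Agent.LeechAut.Xi Cfsg.Agent.LeechAut.Co1
  Cfsg.Agent.LargeExtra.MonsterCent.Seven
open scoped Pointwise

def sigmaP : Equiv.Perm GolayPt := tp sigmaTab sigmaInv (by decide +kernel) (by decide +kernel)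
def normP : Equiv.Perm GolayPt := tp normTab normInv (by decide +kernel) (by decide +kernel)
def p0 : Equiv.Perm GolayPt := tp step0Tab step0Inv (by decide +kernel) (by decide +kernel)
def p1 : Equiv.Perm GolayPt := tp step1Tab step1Inv (by decide +kernel) (by decide +kernel)
def p2 : Equiv.Perm GolayPt := tp step2Tab step2Inv (by decide +kernel) (by decide +kernel)
def p3 : Equiv.Perm GolayPt := tp step3Tab step3Inv (by decide +kernel) (by decide +kernel)
def p4 : Equiv.Perm GolayPt := tp step4Tab step4Inv (by decide +kernel) (by decide +kernel)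
def p5 : Equiv.Perm GolayPt := tp step5Tab step5Inv (by decide +kernel) (by decide +kernel)
def p6 : Equiv.Perm GolayPt := tp step6Tab step6Inv (by decide +kernel) (by decide +kernel)
def p7 : Equiv.Perm GolayPt := tp step7Tab step7Inv (by decide +kernel) (by decide +kernel)

theorem sigma_mem : sigmaP ∈ Cfsg.M24 := mem_M24_of_masks _ (by decide +kernel)
theorem norm_mem : normP ∈ Cfsg.M24 := mem_M24_of_masks _ (by decide +kernel)

def e0 : Cfsg.Co0 := mEl ⟨p0, mem_M24_of_masks _ (by decide +kernel)⟩ step0Mask (by decide +kernel)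
def e1 : Cfsg.Co0 := mEl ⟨p1, mem_M24_of_masks _ (by decide +kernel)⟩ step1Mask (by decide +kernel)
def e2 : Cfsg.Co0 := mEl ⟨p2, mem_M24_of_masks _ (by decide +kernel)⟩ step2Mask (by decide +kernel)
def e3 : Cfsg.Co0 := mEl ⟨p3, mem_M24_of_masks _ (by decide +kernel)⟩ step3Mask (by decide +kernel)
def e4 : Cfsg.Co0 := mEl ⟨p4, mem_M24_of_masks _ (by decide +kernel)⟩ step4Mask (by decide +kernel)
def e5 : Cfsg.Co0 := mEl ⟨p5, mem_M24_of_masks _ (by decide +kernel)⟩ step5Mask (by decide +kernel)
def e6 : Cfsg.Co0 := mEl ⟨p6, mem_M24_of_masks _ (by decide +kernel)⟩ step6Mask (by decide +kernel)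
def e7 : Cfsg.Co0 := mEl ⟨p7, mem_M24_of_masks _ (by decide +kernel)⟩ step7Mask (by decide +kernel)

def genA : Cfsg.Co0 := e0 * (xi * (e1 * (xi * (e2 * (xi * e3)))))
def genB : Cfsg.Co0 := e4 * (xi * (e5 * (xi * (e6 * (xi * e7)))))

def funA (x : Vec) : Vec :=
  mFun p0 step0Mask (xiFun (mFun p1 step1Mask (xiFun (mFun p2 step2Mask (xiFun (mFun p3 step3Mask x))))))
def funB (x : Vec) : Vec :=
  mFun p4 step4Mask (xiFun (mFun p5 step5Mask (xiFun (mFun p6 step6Mask (xiFun (mFun p7 step7Mask x))))))

theorem genA_smul (v : leechLattice) : ((genA • v : leechLattice) : Vec) = funA (v : Vec) := by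
  rw [genA, mul_smul, mul_smul, mul_smul, mul_smul, mul_smul, mul_smul, e0, mEl_smul, xi_smul, e1, mEl_smul,
    xi_smul, e2, mEl_smul, xi_smul, e3, mEl_smul]
  rfl
theorem genB_smul (v : leechLattice) : ((genB • v : leechLattice) : Vec) = funB (v : Vec) := by
  rw [genB, mul_smul, mul_smul, mul_smul, mul_smul, mul_smul, mul_smul, e4, mEl_smul, xi_smul, e5, mEl_smul,
    xi_smul, e6, mEl_smul, xi_smul, e7, mEl_smul]
  rfl

/-- The map of a table. -/
def setMap (t : List (List ℕ)) (k : Fin 2) (j : Fin 9) : Fin 9 :=
  ⟨(t.getD k []).getD j 0 % 9, Nat.mod_lt _ (by norm_num)⟩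

/-- The permutations of the sets. -/
def setPerm (k : Fin 2) : Equiv.Perm (Fin 9) where
  toFun := setMap permTab k
  invFun := setMap permInv k
  left_inv := by revert k; decide +kernel
  right_inv := by revert k; decide +kernel

/-- The data. -/
def D : Dat where
  p := 3
  N := 9
  sigma := ⟨sigmaP, sigma_mem⟩
  gen := ![genA, genB]
  genFun := ![matFun matA, matFun matB]
  repTab := repPack.map unpack
  oddCert := oddCert
  pairCertP := pairCertP
  pairCertN := pairCertN
  codeCert := codeCert
  frameIdx := frameIdx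
  sets j := setTab.getD j []
  img k := imgTab.getD k []
  perm := setPerm

theorem funA_frames : ∀ i q : GolayPt, funA (Pi.single i 8) q = matEntry matA i q := by decide +kernel
theorem funB_frames : ∀ i q : GolayPt, funB (Pi.single i 8) q = matEntry matB i q := by decide +kernel

theorem genA_mat (v : leechLattice) : ((genA • v : leechLattice) : Vec) = matFun matA (v : Vec) :=
  matFun_smul matA genA_smul funA_frames v
theorem genB_mat (v : leechLattice) : ((genB • v : leechLattice) : Vec) = matFun matB (v : Vec) :=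
  matFun_smul matB genB_smul funB_frames v

theorem genA_comm_test : ∀ i : GolayPt,
    matFun matA (mFun sigmaP 0 (Pi.single i 8)) = mFun sigmaP 0 (matFun matA (Pi.single i 8)) := by decide +kernel
theorem genB_comm_test : ∀ i : GolayPt,
    matFun matB (mFun sigmaP 0 (Pi.single i 8)) = mFun sigmaP 0 (matFun matB (Pi.single i 8)) := by decide +kernel

theorem sig_smul' (v : leechLattice) : ((D.sig • v : leechLattice) : Vec) = mFun sigmaP 0 (v : Vec) := by
  rw [Dat.sig, MonsterPair.permHom_eq_mono, mono_smul]
  funext i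
  simp [D, mFun, signedPerm]

theorem comb_00 : ∀ x, x 0 = 0 → x 1 = 0 → half (D.repFun x) (D.combFun x) = true := by decide +kernel
theorem comb_01 : ∀ x, x 0 = 0 → x 1 = 1 → half (D.repFun x) (D.combFun x) = true := by decide +kernel
theorem comb_10 : ∀ x, x 0 = 1 → x 1 = 0 → half (D.repFun x) (D.combFun x) = true := by decide +kernel
theorem comb_11 : ∀ x, x 0 = 1 → x 1 = 1 → half (D.repFun x) (D.combFun x) = true := by decide +kernel

theorem comb_all (x : Fin 8 → ZMod 2) : half (D.repFun x) (D.combFun x) = true := by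
  have hz : ∀ a : ZMod 2, a = 0 ∨ a = 1 := by decide
  rcases hz (x 0) with h0 | h0 <;> rcases hz (x 1) with h1 | h1
  exacts [comb_00 x h0 h1, comb_01 x h0 h1, comb_10 x h0 h1, comb_11 x h0 h1]

theorem mem_all : ∀ x, inLat (D.repFun x) = true := by decide +kernel
theorem fixed_all : ∀ x, half (D.sigFun (D.repFun x)) (D.repFun x) = true := by decide +kernel
theorem norm_all : ∀ x, x ≠ 0 → sqNorm (D.repFun x) ≤ 64 ∧ sqNorm (D.repFun x) ≠ 0 := by decide +kernel
theorem odd_test : half (D.trFun oddVec) (D.repFun (bit8 D.oddCert)) = true := by decide +kernel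
theorem pair_all : ∀ i : GolayPt, i ≠ none →
    half (D.trFun (pairVec i 1)) (D.repFun (bit8 (D.pairCertP.getD (ix i) 0))) = true ∧
    half (D.trFun (pairVec i (-1))) (D.repFun (bit8 (D.pairCertN.getD (ix i) 0))) = true := by decide +kernel
theorem code_all : ∀ k : Fin 12,
    half (D.trFun (twoInd (maskSet (basisMasks.getD k 0)))) (D.repFun (bit8 (D.codeCert.getD k 0))) = true := by
  decide +kernel
theorem img_zero : ∀ j, ∀ i ∈ D.sets j,
    half (D.genFun 0 (D.repFun (bit8 i))) (D.repFun (bit8 ((D.img 0).getD i 0))) = true ∧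
      (D.img 0).getD i 0 ∈ D.sets (D.perm 0 j) := by decide +kernel
theorem img_one : ∀ j, ∀ i ∈ D.sets j,
    half (D.genFun 1 (D.repFun (bit8 i))) (D.repFun (bit8 ((D.img 1).getD i 0))) = true ∧
      (D.img 1).getD i 0 ∈ D.sets (D.perm 1 j) := by decide +kernel

theorem ok : D.OK where
  prime := by show Nat.Prime 3; norm_num
  odd := by show (3 : ℕ) ≠ 2; norm_num
  sigma_pow := Subtype.ext (Equiv.ext fun q => by revert q; decide +kernel)
  sigma_ne := fun e => by
    have h : sigmaP (pt 0) = pt 0 := by
      have := congrArg (fun u : Cfsg.M24 => (u : Equiv.Perm GolayPt) (pt 0)) e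
      exact this
    revert h
    decide +kernel
  gen_smul := fun j => by
    fin_cases j
    exacts [genA_mat, genB_mat]
  gen_comm := fun j => by
    refine eq_of_frames fun i => ?_
    fin_cases j
    · show ((genA * D.sig) • frame i : leechLattice).1 = ((D.sig * genA) • frame i : leechLattice).1
      rw [mul_smul, mul_smul, genA_mat, sig_smul', sig_smul', genA_mat, frame_coe]
      exact genA_comm_test i
    · show ((genB * D.sig) • frame i : leechLattice).1 = ((D.sig * genB) • frame i : leechLattice).1
      rw [mul_smul, mul_smul, genB_mat, sig_smul', sig_smul', genB_mat, frame_coe]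
      exact genB_comm_test i
  rep_mem := mem_all
  rep_fixed := fixed_all
  rep_norm := norm_all
  rep_comb := comb_all
  odd_trace := odd_test
  pair_trace := pair_all
  code_trace := code_all
  frame_rep := by decide +kernel
  sets_ne := by decide +kernel
  gen_img := fun k => by
    fin_cases k
    exacts [img_zero, img_one]
  gen_onto := by decide +kernel

end Cfsg.Agent.LargeExtra.MonsterSpread.Three
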