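import Cfsg.Agent.Lib.LargeExtra.MonsterSpread.Three

/-!
The centralizer of the element of order three: its order, the group it induces on the nine sets, and
the conjugacy of the elements of order three in the stabiliser of the cross which are central in no
Sylow subgroup.
-/

set_option autoImplicit false
set_option maxRecDepth 100000
set_option maxHeartbeats 4000000
set_option linter.unusedSectionVars false
set_option linter.style.haveILetI false

namespace Cfsg.Agent.LargeExtra.MonsterSpread.Three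

open Cfsg Cfsg.Agent.Golay.Basic Cfsg.Agent.Golay.Perm Cfsg.Agent.Golay.M24 Cfsg.Agent.Golay.M24Data
  Cfsg.Agent.Golay.Cert
  Cfsg.Agent.M24Module.Classes Cfsg.Agent.M24Module.ClassData
  Cfsg.Agent.Leech.Classes Cfsg.Agent.Leech.Index Cfsg.Agent.LeechAut.Basic Cfsg.Agent.LeechAut.Cross
  Cfsg.Agent.LeechAut.Co1 Cfsg.Agent.LeechAut.Maximal Cfsg.Agent.LargeExtra.MonsterCent.Seven
open scoped Pointwise

theorem sigma_ix : ∀ q, ix ((D.sigma : Equiv.Perm GolayPt) q) = sigmaTab.getD (ix q) 0 := by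
  decide +kernel

/-- The orbit of a point. -/
def orb (q : GolayPt) : Fin 8 := ⟨orbTab.getD (ix q) 0 % 8, Nat.mod_lt _ (by norm_num)⟩

/-- A point of an orbit. -/
def orbPt (k : Fin 8) : GolayPt := pt (orbRep.getD k 0)

theorem orb_spec : ∀ q : GolayPt, ∃ e ∈ List.range D.p,
    ((D.sigma : Equiv.Perm GolayPt) ^ e) (orbPt (orb q)) = q := by decide +kernel

theorem orb_eq : ∀ x y : GolayPt, orb x = orb y → y = x ∨ y = sigmaP x ∨ y = sigmaP (sigmaP x) := by
  decide +kernel

theorem base_facts : sigmaP (base 0) = base 1 ∧ sigmaP (base 1) = base 2 ∧ sigmaP (base 3) = base 4 ∧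
    base 3 ≠ base 0 ∧ base 3 ≠ sigmaP (base 0) ∧ base 3 ≠ sigmaP (sigmaP (base 0)) := by decide +kernel

theorem shift_tabs : tabOK shiftOne = true ∧ tabOK shiftTwo = true ∧
    (List.range 5).all (fun j => tabAt shiftOne (baseIx.getD j 0) ==
      ix ([base 0, base 1, base 2, sigmaP (base 3), sigmaP (sigmaP (base 3))].getD j none)) = true ∧
    (List.range 5).all (fun j => tabAt shiftTwo (baseIx.getD j 0) ==
      ix ([base 0, base 1, base 2, sigmaP (sigmaP (base 3)), sigmaP (sigmaP (sigmaP (base 3)))].getD j none)) = true := by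
  decide +kernel

theorem shift_words : (commWords shiftOne sigmaTab).length = 0 ∧ (commWords shiftTwo sigmaTab).length = 0 ∧
    (commWords idT sigmaTab).length = 3 := by decide +kernel

theorem card_pairs : Nat.card {x : GolayPt × Fin 8 // orb x.1 ≠ x.2} = 168 := by
  rw [Nat.card_eq_fintype_card]
  decide +kernel

theorem comm_apply {a : Cfsg.M24} (h : a * D.sigma = D.sigma * a) (q : GolayPt) :
    (a : Equiv.Perm GolayPt) (sigmaP q) = sigmaP ((a : Equiv.Perm GolayPt) q) :=
  congrArg (fun u : Cfsg.M24 => (u : Equiv.Perm GolayPt) q) h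

theorem no_shift {s : ℕ} (hs : tabOK s = true) (hnil : (commWords s sigmaTab).length = 0) {l : List GolayPt}
    (hl : (List.range 5).all (fun j => tabAt s (baseIx.getD j 0) == ix (l.getD j none)) = true)
    {w : Cfsg.M24} (hw : w * D.sigma = D.sigma * w)
    (h : ∀ j < 5, (w : Equiv.Perm GolayPt) (base j) = l.getD j none) : False := by
  refine no_comm (σ := D.sigma) sigma_ix hs hnil w.2
    (congrArg (fun u : Cfsg.M24 => (u : Equiv.Perm GolayPt)) hw) fun j hj => ?_
  simp only [List.all_eq_true, List.mem_range, beq_iff_eq] at hl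
  refine (h j hj).trans (ix_injective ?_)
  rw [base, isTab_tabPerm hs, ix_pt (baseIx_lt j), hl j hj]

theorem card_comm : Nat.card {τ : Cfsg.M24 // τ * D.sigma = D.sigma * τ} ≤ 504 := by
  obtain ⟨b01, b12, b34, n0, n1, n2⟩ := base_facts
  let f : {τ : Cfsg.M24 // τ * D.sigma = D.sigma * τ} → {x : GolayPt × Fin 8 // orb x.1 ≠ x.2} := fun a =>
    ⟨(((a.1 : Cfsg.M24) : Equiv.Perm GolayPt) (base 0), orb (((a.1 : Cfsg.M24) : Equiv.Perm GolayPt) (base 3))),
      fun e => by
        rcases orb_eq _ _ e with h | h | h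
        · exact n0 (((a.1 : Cfsg.M24) : Equiv.Perm GolayPt).injective h)
        · rw [← comm_apply a.2] at h
          exact n1 (((a.1 : Cfsg.M24) : Equiv.Perm GolayPt).injective h)
        · rw [← comm_apply a.2, ← comm_apply a.2] at h
          exact n2 (((a.1 : Cfsg.M24) : Equiv.Perm GolayPt).injective h)⟩
  refine le_trans (card_comm_le (σ := D.sigma) sigma_ix f fun a b e => ?_) (by rw [card_pairs, shift_words.2.2])
  simp only [f, Subtype.mk.injEq, Prod.mk.injEq] at e
  obtain ⟨e0, e3⟩ := e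
  set A := ((a.1 : Cfsg.M24) : Equiv.Perm GolayPt) with hA
  set B := ((b.1 : Cfsg.M24) : Equiv.Perm GolayPt) with hB
  have e1 : A (base 1) = B (base 1) := by rw [← b01, hA, hB, comm_apply a.2, comm_apply b.2, e0]
  have e2 : A (base 2) = B (base 2) := by
    rw [← b12, hA, hB, comm_apply a.2, comm_apply b.2]
    exact congrArg sigmaP e1
  have e3' : A (base 3) = B (base 3) := by
    obtain ⟨hs1, hs2, hl1, hl2⟩ := shift_tabs
    have hw : (a.1⁻¹ * b.1) * D.sigma = D.sigma * (a.1⁻¹ * b.1) :=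
      ((show Commute a.1 D.sigma from a.2).inv_left.mul_left (show Commute b.1 D.sigma from b.2)).eq
    have hWdef : ((a.1⁻¹ * b.1 : Cfsg.M24) : Equiv.Perm GolayPt) = A⁻¹ * B := rfl
    have key : ∀ {q r : GolayPt}, B q = A r → ((a.1⁻¹ * b.1 : Cfsg.M24) : Equiv.Perm GolayPt) q = r :=
      fun {q r} h => by rw [hWdef, Equiv.Perm.mul_apply, h]; exact A.symm_apply_apply r
    rcases orb_eq _ _ e3 with h | h | h
    · exact h.symm
    · exfalso
      rw [← comm_apply a.2] at h
      refine no_shift hs1 shift_words.1 hl1 hw fun j hj => ?_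
      interval_cases j
      · exact key e0.symm
      · exact key e1.symm
      · exact key e2.symm
      · exact key h
      · show _ = sigmaP (sigmaP (base 3))
        rw [← b34, comm_apply hw, key h]
    · exfalso
      rw [← comm_apply a.2, ← comm_apply a.2] at h
      refine no_shift hs2 shift_words.2.1 hl2 hw fun j hj => ?_
      interval_cases j
      · exact key e0.symm
      · exact key e1.symm
      · exact key e2.symm
      · exact key h
      · show _ = sigmaP (sigmaP (sigmaP (base 3)))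
        rw [← b34, comm_apply hw, key h]
  intro j hj
  interval_cases j
  · exact e0
  · exact e1
  · exact e2
  · exact e3'
  · rw [← b34, comm_apply a.2, comm_apply b.2]
    exact congrArg sigmaP e3'

theorem code_count :
    (Finset.univ.filter fun b : Fin 8 → Bool => isCode (orbMask8 orb b) = true).card ≤ 16 := by
  decide +kernel

theorem frame_count :
    (Finset.univ.filter fun x : Fin 8 → ZMod 2 => sqNorm (D.repFun x) = 64).card ≤ 135 := by
  decide +kernel

theorem card_C0 : Nat.card D.C0 ≤ 1088640 := by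
  refine le_trans (Dat.card_C0_le ok (s := 8064) frame_count ((Dat.stab_le ok).trans ?_)) (by norm_num)
  calc _ ≤ 504 * 16 := Nat.mul_le_mul card_comm ((Dat.card_fixed_code orb_spec).trans code_count)
    _ = 8064 := by norm_num

/-! ### The group on the sets -/

/-- The alternating group on the nine sets. -/
def H : Subgroup (Equiv.Perm (Fin D.N)) := alternatingGroup (Fin 9)

theorem cyc_words : ∀ a b c : Fin 9, a ≠ b → b ≠ c → a ≠ c →
    wordVal setPerm (cycLookup cycWords a b c) = Equiv.swap a b * Equiv.swap b c := by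
  decide +kernel

theorem H_le : H ≤ Subgroup.closure (Set.range D.perm) := by
  refine alternating_le fun a b c hab hbc hac => ?_
  show Equiv.swap a b * Equiv.swap b c ∈ Subgroup.closure (Set.range setPerm)
  rw [← cyc_words a b c hab hbc hac]
  exact wordVal_mem _ _

theorem card_alt : Nat.card (alternatingGroup (Fin 9)) = 181440 := by
  have h := two_mul_nat_card_alternatingGroup (α := Fin 9)
  rw [Nat.card_perm, Nat.card_fin, show Nat.factorial 9 = 362880 from rfl] at h
  omega

theorem core_H : Cfsg.pCore 2 H = ⊥ := by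
  show Cfsg.pCore 2 (alternatingGroup (Fin 9)) = ⊥
  haveI : IsSimpleGroup (alternatingGroup (Fin 9)) := alternatingGroup.isSimpleGroup (by simp)
  haveI : Fact (Nat.Prime 2) := ⟨Nat.prime_two⟩
  refine (IsSimpleGroup.eq_bot_or_eq_top_of_normal _
    (Cfsg.Agent.Cores.pCore_normal (G := alternatingGroup (Fin 9)) 2)).resolve_right fun h => ?_
  obtain ⟨n, hn⟩ := IsPGroup.iff_card.1
    (Cfsg.Agent.Cores.pCore_isPGroup (G := alternatingGroup (Fin 9)) 2)
  rw [h, Subgroup.card_top, card_alt] at hn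
  have := (Nat.prime_dvd_prime_iff_eq (by norm_num : Nat.Prime 3) Nat.prime_two).1
    ((by norm_num : Nat.Prime 3).dvd_of_dvd_pow (show 3 ∣ 2 ^ n by rw [← hn]; norm_num))
  norm_num at this

theorem card_bound : Nat.card D.C0 ≤ 2 * D.p * Nat.card H :=
  card_C0.trans (le_of_eq (by show _ = 2 * 3 * Nat.card (alternatingGroup (Fin 9)); rw [card_alt]))

theorem norm_conj : (⟨normP, norm_mem⟩ : Cfsg.M24) * D.sigma * (⟨normP, norm_mem⟩ : Cfsg.M24)⁻¹ = D.sigma ^ 2 := by
  rw [mul_inv_eq_iff_eq_mul]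
  refine Subtype.ext (Equiv.ext fun q => ?_)
  revert q
  decide +kernel

theorem pow_induced (k : ℕ) (hk : ¬ D.p ∣ k) :
    ∃ m : Cfsg.Spor.Co1, m * MonsterPair.toCo1 D.sig * m⁻¹ = MonsterPair.toCo1 D.sig ^ k :=
  conj_pow_exists ok norm_conj (show ∀ r : ℕ, r < 3 → r ≠ 0 → ∃ a : Fin 3, 2 ^ (a : ℕ) % 3 = r by decide) k hk

/-! ### The stabiliser of the cross -/

/-- The permutations inside the stabiliser of the cross. -/
noncomputable def pm : Cfsg.M24 →* crossOne :=
  (MonsterPair.toCo1.comp permHom).codRestrict _ fun _ => Subgroup.mem_map_of_mem _ (permHom_mem _)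

theorem pm_injective : Function.Injective pm := by
  refine (injective_iff_map_eq_one pm).2 fun g hg => MonsterPair.eq_one_of_mem_signSub ?_
  exact MonsterPair.center_le_signSub ((QuotientGroup.eq_one_iff _).1 (congrArg Subtype.val hg))

theorem three_crossOne : (Nat.card crossOne).factorization 3 = 3 := by
  have h : Nat.card crossOne = 2048 * 244823040 := by have := card_crossOne; omega
  rw [h]
  have hn : (2048 * 244823040 : ℕ) ≠ 0 := by norm_num
  have h1 := (Nat.Prime.pow_dvd_iff_le_factorization (p := 3) (k := 3) (by norm_num) hn).1 (by norm_num)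
  have h2 : ¬ 4 ≤ (2048 * 244823040 : ℕ).factorization 3 := fun h2 => by
    have := (Nat.Prime.pow_dvd_iff_le_factorization (p := 3) (k := 4) (by norm_num) hn).2 h2
    norm_num at this
  omega

theorem sylA_check : (sylA.all tabOK && tabOK repA && tabOK repB && tabOK conjB &&
    sylA.any (fun x => (List.range 24).all fun i => tabAt x i == i) &&
    sylA.all (fun a => sylA.all fun b => sylA.any fun c =>
      (List.range 24).all fun i => tabAt a (tabAt b i) == tabAt c i) &&
    sylA.all (fun a => sylA.any fun b => (List.range 24).all fun i => tabAt a (tabAt b i) == i) &&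
    sylA.all (fun a => (List.range 24).all fun i => tabAt a (tabAt repA i) == tabAt repA (tabAt a i)) &&
    sylA.any (fun a => (List.range 24).all fun i => tabAt a i == tabAt repA i) &&
    sylA.all (fun a => sylA.all fun b => !((List.range 24).all fun i => tabAt a i == tabAt b i) || a == b) &&
    decide (sylA.Nodup) && decide (sylA.length = 27) &&
    ((List.range 24).all fun i => tabAt conjB (tabAt repB i) == sigmaTab.getD (tabAt conjB i) 0) &&
    threeReps.all (fun r => r == repA || r == repB)) = true := by decide +kernel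

theorem sylA_facts : (∀ a ∈ sylA, tabOK a = true) ∧ tabOK repA = true ∧ tabOK repB = true ∧
    tabOK conjB = true ∧ (∃ x ∈ sylA, ∀ i < 24, tabAt x i = i) ∧
    (∀ a ∈ sylA, ∀ b ∈ sylA, ∃ c ∈ sylA, ∀ i < 24, tabAt a (tabAt b i) = tabAt c i) ∧
    (∀ a ∈ sylA, ∃ b ∈ sylA, ∀ i < 24, tabAt a (tabAt b i) = i) ∧
    (∀ a ∈ sylA, ∀ i < 24, tabAt a (tabAt repA i) = tabAt repA (tabAt a i)) ∧
    (∃ a ∈ sylA, ∀ i < 24, tabAt a i = tabAt repA i) ∧
    (∀ a ∈ sylA, ∀ b ∈ sylA, (∀ i < 24, tabAt a i = tabAt b i) → a = b) ∧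
    sylA.Nodup ∧ sylA.length = 27 ∧
    (∀ i < 24, tabAt conjB (tabAt repB i) = sigmaTab.getD (tabAt conjB i) 0) ∧
    ∀ r ∈ threeReps, r = repA ∨ r = repB := by
  have h := sylA_check
  simp only [Bool.and_eq_true, List.all_eq_true, List.any_eq_true, List.mem_range, beq_iff_eq,
    decide_eq_true_eq, Bool.or_eq_true, Bool.not_eq_true'] at h
  obtain ⟨⟨⟨⟨⟨⟨⟨⟨⟨⟨⟨⟨⟨h1, h2⟩, h3⟩, h4⟩, h5⟩, h6⟩, h7⟩, h8⟩, h9⟩, h10⟩, h11⟩, h12⟩, h13⟩, h14⟩ := h
  refine ⟨h1, h2, h3, h4, h5, h6, h7, h8, h9, fun a ha b hb hab => ?_, h11, h12, h13, h14⟩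
  rcases h10 a ha b hb with h | h
  · have ht : ((List.range 24).all fun i => tabAt a i == tabAt b i) = true := by
      simp only [List.all_eq_true, List.mem_range, beq_iff_eq]; exact hab
    rw [ht] at h
    exact Bool.noConfusion h
  · exact h

/-- The group of order 27. -/
def sylSub : Subgroup Cfsg.M24 where
  carrier := {g | ∃ t ∈ sylA, IsTab t (g : Equiv.Perm GolayPt)}
  one_mem' := by
    obtain ⟨x, hx, hxi⟩ := sylA_facts.2.2.2.2.1
    exact ⟨x, hx, fun q => by rw [hxi _ (ix_lt q)]; rfl⟩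
  mul_mem' := by
    rintro g g' ⟨a, ha, hg⟩ ⟨b, hb, hg'⟩
    obtain ⟨c, hc, hci⟩ := sylA_facts.2.2.2.2.2.1 a ha b hb
    refine ⟨c, hc, fun q => ?_⟩
    rw [← hci _ (ix_lt q), Subgroup.coe_mul, Equiv.Perm.mul_apply, hg, hg']
  inv_mem' := by
    rintro g ⟨a, ha, hg⟩
    obtain ⟨b, hb, hbi⟩ := sylA_facts.2.2.2.2.2.2.1 a ha
    refine ⟨b, hb, fun q => ?_⟩
    have hlt : tabAt b (ix q) < 24 := IsTab.at_lt (isTab_tabPerm (sylA_facts.1 b hb)) (ix_lt q)
    have e : (g : Equiv.Perm GolayPt) (pt (tabAt b (ix q))) = q := ix_injective (by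
      rw [hg, ix_pt hlt, hbi _ (ix_lt q)])
    conv_lhs => rw [← e]
    rw [Subgroup.coe_inv, show ∀ z, (g : Equiv.Perm GolayPt)⁻¹ ((g : Equiv.Perm GolayPt) z) = z from
      (g : Equiv.Perm GolayPt).symm_apply_apply, ix_pt hlt]

theorem card_sylSub : Nat.card sylSub = 27 := by
  obtain ⟨h1, -, -, -, -, -, -, -, -, h10, h11, h12, -, -⟩ := sylA_facts
  let f : {t // t ∈ sylA} → sylSub := fun t =>
    ⟨⟨tabPerm t.1, tabPerm_mem (h1 t.1 t.2)⟩, t.1, t.2, isTab_tabPerm (h1 t.1 t.2)⟩
  have hf : Function.Bijective f := by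
    constructor
    · intro s t e
      have e' : tabPerm s.1 = tabPerm t.1 :=
        congrArg (fun u : sylSub => ((u : Cfsg.M24) : Equiv.Perm GolayPt)) e
      refine Subtype.ext (h10 _ s.2 _ t.2 fun i hi => ?_)
      have hs := isTab_tabPerm (h1 s.1 s.2) (pt i)
      have ht := isTab_tabPerm (h1 t.1 t.2) (pt i)
      rw [ix_pt hi] at hs ht
      rw [← hs, ← ht, e']
    · rintro ⟨g, t, ht, hg⟩
      exact ⟨⟨t, ht⟩, Subtype.ext (Subtype.ext ((isTab_tabPerm (h1 t ht)).unique hg))⟩
  rw [← Nat.card_eq_of_bijective f hf, Nat.card_eq_fintype_card,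
    Fintype.card_of_subtype sylA.toFinset fun _ => List.mem_toFinset, List.toFinset_card_of_nodup h11, h12]

theorem hits (c : crossOne) (hc : orderOf c = 3) (hnc : NC 3 c) : D.Hits c := by
  haveI : Fact (Nat.Prime 3) := ⟨by norm_num⟩
  haveI := finite_Co0
  haveI : Finite crossOne := inferInstance
  let P1 : Sylow 3 crossOne := Sylow.ofCard (sylSub.map pm) (by
    rw [Subgroup.card_map_of_injective pm_injective, card_sylSub, three_crossOne]; rfl)
  obtain ⟨P, hP⟩ := (IsPGroup.of_card (n := 1) (by rw [Nat.card_zpowers, hc, pow_one]) :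
    IsPGroup 3 (Subgroup.zpowers c)).exists_le_sylow
  obtain ⟨k, hk⟩ := MulAction.exists_smul_eq crossOne P P1
  have hm : k * c * k⁻¹ ∈ (P1 : Subgroup crossOne) := by
    rw [← hk, Sylow.coe_subgroup_smul, Subgroup.mem_pointwise_smul_iff_inv_smul_mem, ← map_inv,
      MulAut.smul_def, MulAut.conj_apply]
    convert hP (Subgroup.mem_zpowers c) using 1
    group
  obtain ⟨g, -, hg⟩ : k * c * k⁻¹ ∈ sylSub.map pm := hm
  have hgo : orderOf (g : Equiv.Perm GolayPt) = 3 := by
    rw [Subgroup.orderOf_coe, ← orderOf_injective pm pm_injective g, hg]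
    exact (orderOf_injective (MulAut.conj k).toMonoidHom (MulAut.conj k).injective c).trans hc
  obtain ⟨k', hk', r, hr, hkr⟩ := classify_three g.2 hgo
  obtain ⟨h1, h2, h3, h4, -, -, -, h8, h9, -, -, -, h13, h14⟩ := sylA_facts
  rcases h14 r hr with rfl | rfl
  · exfalso
    -- central in a Sylow subgroup
    let w : Cfsg.M24 := ⟨k', hk'⟩ * g * (⟨k', hk'⟩)⁻¹
    have hw : (w : Equiv.Perm GolayPt) = tabPerm repA := hkr
    let m : crossOne := pm ⟨k', hk'⟩ * k
    have hwc : pm w = m * c * m⁻¹ := by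
      show pm (⟨k', hk'⟩ * g * (⟨k', hk'⟩)⁻¹) = _
      rw [map_mul, map_mul, map_inv, hg]
      simp only [m]
      group
    have hmem : w ∈ sylSub := by
      obtain ⟨a, ha, hai⟩ := h9
      exact ⟨a, ha, fun q => by rw [hw, hai _ (ix_lt q)]; exact isTab_tabPerm h2 q⟩
    have hnc' : NC 3 ((MulAut.conj m).toMonoidHom c) := by
      refine NC.map (p := 3) (by norm_num) (MulAut.conj m).surjective ?_ hc hnc
      rw [(MonoidHom.ker_eq_bot_iff _).2 (MulAut.conj m).injective]
      exact IsPGroup.of_bot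
    obtain ⟨y, hy, hne⟩ := hnc' P1 ⟨w, hmem, hwc⟩
    obtain ⟨y', ⟨a, ha, hay⟩, rfl⟩ : y ∈ sylSub.map pm := hy
    refine hne ?_
    change pm y' * (m * c * m⁻¹) = (m * c * m⁻¹) * pm y'
    rw [← hwc, ← map_mul, ← map_mul]
    refine congrArg pm (Subtype.ext (Equiv.ext fun q => ix_injective ?_))
    show ix ((y' : Equiv.Perm GolayPt) ((w : Equiv.Perm GolayPt) q)) =
      ix ((w : Equiv.Perm GolayPt) ((y' : Equiv.Perm GolayPt) q))
    rw [hw, hay, isTab_tabPerm h2, isTab_tabPerm h2, hay, h8 a ha _ (ix_lt q)]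
  · let n : Cfsg.M24 := ⟨tabPerm conjB, tabPerm_mem h4⟩ * ⟨k', hk'⟩
    refine ⟨pm n * k, 1, ?_⟩
    rw [zpow_one]
    have hn : n * g * n⁻¹ = D.sigma := by
      refine Subtype.ext ?_
      show tabPerm conjB * k' * (g : Equiv.Perm GolayPt) * (tabPerm conjB * k')⁻¹ = sigmaP
      calc _ = tabPerm conjB * (k' * (g : Equiv.Perm GolayPt) * k'⁻¹) * (tabPerm conjB)⁻¹ := by group
        _ = sigmaP := by
          rw [hkr, mul_inv_eq_iff_eq_mul]
          refine Equiv.ext fun q => ix_injective ?_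
          rw [Equiv.Perm.mul_apply, Equiv.Perm.mul_apply, isTab_tabPerm h4, isTab_tabPerm h3,
            h13 _ (ix_lt q), ← isTab_tabPerm h4]
          exact (sigma_ix _).symm
    rw [show pm n * k * c * (pm n * k)⁻¹ = pm n * (k * c * k⁻¹) * (pm n)⁻¹ by group, ← hg, ← map_inv,
      ← map_mul, ← map_mul, hn]
    rfl

end Cfsg.Agent.LargeExtra.MonsterSpread.Three
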